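import Mathlib
import Cfsg.Prelude.Def_FusionSystem
import Cfsg.Agent.Lib.Helper25.Fusion
import Cfsg.Agent.Lib.Helper25.FusionAut
import Cfsg.Agent.Lib.CSE.CSEDefs

/-!
# S5127 (design helper5): `C_S(E)` exists and is strongly closed — definitions

`InX F E X`: `X ≤ C_S(T)` and every map of `E` extends to a map of `F` on `P ⊔ X` fixing `X`
elementwise (`Helper3.CSE.ExtFix`); this is the family of S5127.
`cSE F E`: the join of the family; S5127 says it belongs to the family and is strongly closed.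
`XHyp p F E X`: the three properties of `X` under which helper3's induction (Lib/CSE, written for
`X = focC F T`) proves `InX F E X`.
-/

set_option autoImplicit false

namespace Cfsg.Agent.Helper5.CSX

open Cfsg Cfsg.FusionSystem Cfsg.Agent.Helper25 Cfsg.Agent.Helper3.CSE

variable {Ω : Type*} [Group Ω] {S : Subgroup Ω}

/-- `X ≤ C_S(T)` and `E ⊆ C_F(X)`. -/
def InX (F : FusionSystem S) {T : Subgroup Ω} (E : FusionSystem T) (X : Subgroup Ω) : Prop :=
  X ≤ centralizerIn S T ∧ ∀ (P : Subgroup Ω) (φ : P →* Ω), φ ∈ E.Hom P → ExtFix F X P φ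

/-- The join of the family; it is `C_S(E)`. -/
def cSE (F : FusionSystem S) {T : Subgroup Ω} (E : FusionSystem T) : Subgroup Ω :=
  sSup {X : Subgroup Ω | InX F E X}

theorem cSE_le (F : FusionSystem S) {T : Subgroup Ω} (E : FusionSystem T) :
    cSE F E ≤ centralizerIn S T :=
  sSup_le fun _ hX => hX.1

theorem le_cSE (F : FusionSystem S) {T : Subgroup Ω} (E : FusionSystem T) {X : Subgroup Ω}
    (hX : InX F E X) : X ≤ cSE F E :=
  le_sSup hX

/-- The hypotheses on `X` under which the induction of Lib/CSE works. -/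
structure XHyp (p : ℕ) (F : FusionSystem S) {T : Subgroup Ω} (E : FusionSystem T)
    (X : Subgroup Ω) : Prop where
  le : X ≤ centralizerIn S T
  lift : ∀ {R : Subgroup Ω}, R ≤ T → F.IsFullyCentralized R → ∀ η : MulAut R, η ∈ E.autGroup R →
    LiftZ F R η → (orderOf η).Coprime p → ExtFix F X R (R.subtype.comp η.toMonoidHom)
  aut : ∀ γ : MulAut T, γ ∈ F.autGroup T → ∃ β ∈ F.autGroup (T ⊔ centralizerIn S T),
    (∀ x : T, ((β (Subgroup.inclusion le_sup_left x) : ↥(T ⊔ centralizerIn S T)) : Ω) =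
      ((γ x : T) : Ω)) ∧
    ∀ y : ↥(T ⊔ centralizerIn S T), (y : Ω) ∈ X →
      ((β y : ↥(T ⊔ centralizerIn S T)) : Ω) ∈ X

/-- `bGrp E R ≤ Aut_E(R)`. -/
theorem bGrp_le_autGroup {T : Subgroup Ω} (E : FusionSystem T) {R : Subgroup Ω} (hRT : R ≤ T) :
    bGrp E R ≤ E.autGroup R := by
  unfold bGrp
  rw [Subgroup.closure_le]
  rintro ζ ⟨ξ, hξ, α, hα, rfl⟩
  exact (E.autGroup R).mul_mem ((E.autGroup R).mul_mem hξ (autInducedBy_le_autGroup E hRT hα))
    ((E.autGroup R).inv_mem hξ)

end Cfsg.Agent.Helper5.CSX
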