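import Mathlib
import Cfsg.Agent.Lib.CSX.CSXDefs
import Cfsg.Prelude.Def_KGroupFacts

/-!
# S5127 (design helper5): definitions for the strong closure part

`Pres F E P φ`: the map `φ` preserves membership in `cSE F E` in both directions.
`fixOf β`: the fixed points of an automorphism `β` of a subgroup `Q`, as a subgroup of `Ω`.
`GoodU p F T U`: the properties of (a suitable conjugate of) an essential subgroup `U` that the
proof uses: fully normalized, proper, self-centralizing, normal `p`-subgroups of `Aut_F(U)` are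
inner, and `U ⊓ T` is fully normalized.
`AEpred F E U a` (for `a ∈ Aut_F(U)`): `[U, a] ≤ T` and `a` restricted to `U ⊓ T` is in `Aut_E(U ⊓ T)`.
-/

set_option autoImplicit false

namespace Cfsg.Agent.Helper5.CSX

open Cfsg Cfsg.FusionSystem Cfsg.Agent.Helper25 Cfsg.Agent.Helper3.CSE

variable {Ω : Type*} [Group Ω] {S : Subgroup Ω}

/-- `φ` preserves membership in `C_S(E)` both ways. -/
def Pres (F : FusionSystem S) {T : Subgroup Ω} (E : FusionSystem T) (P : Subgroup Ω)
    (φ : P →* Ω) : Prop :=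
  ∀ x : P, ((x : Ω) ∈ cSE F E ↔ φ x ∈ cSE F E)

/-- The fixed points of an automorphism of the subgroup `Q`, inside `Ω`. -/
def fixOf {Q : Subgroup Ω} (β : MulAut Q) : Subgroup Ω :=
  (MonoidHom.eqLocus β.toMonoidHom (MonoidHom.id Q)).map Q.subtype

theorem mem_fixOf {Q : Subgroup Ω} (β : MulAut Q) {g : Ω} :
    g ∈ fixOf β ↔ ∃ h : g ∈ Q, β ⟨g, h⟩ = ⟨g, h⟩ := by
  unfold fixOf
  constructor
  · rintro ⟨y, hy, rfl⟩
    exact ⟨y.2, hy⟩
  · rintro ⟨h, hg⟩
    exact ⟨⟨g, h⟩, hg, rfl⟩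

/-- The properties of an essential subgroup (or of a suitable conjugate) used in the proof. -/
structure GoodU (p : ℕ) (F : FusionSystem S) (T U : Subgroup Ω) : Prop where
  fn : F.IsFullyNormalized U
  ne : U ≠ S
  cen : centralizerIn S U ≤ U
  inn : ∀ C : Subgroup (MulAut U), C ≤ F.autGroup U → (C.subgroupOf (F.autGroup U)).Normal →
    IsPGroup p C → C ≤ Inn U
  rfn : F.IsFullyNormalized (U ⊓ T)

/-- For `a ∈ Aut_F(U)`: `[U, a] ≤ T`, and `a` induces an element of `Aut_E(U ⊓ T)`. -/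
def AEpred (F : FusionSystem S) {T : Subgroup Ω} (E : FusionSystem T) (U : Subgroup Ω)
    (a : ↥(F.autGroup U)) : Prop :=
  (∀ u : U, (u : Ω)⁻¹ * (((a : MulAut U) u : U) : Ω) ∈ T) ∧
    ∃ η ∈ E.autGroup (U ⊓ T), ∀ r : ↥(U ⊓ T),
      ((η r : ↥(U ⊓ T)) : Ω) = (((a : MulAut U) ⟨(r : Ω), r.2.1⟩ : U) : Ω)

end Cfsg.Agent.Helper5.CSX
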