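import Mathlib

/-!
# S5127 piece CSX-NG (pure group theory, Mathlib only): normalizers grow
In a finite `p`-group `P ⊔ Q` where `P` normalizes `Q` and `Q` is not contained in `P`, some element
of `Q` normalizes `P` and is not in `P`.
RECIPE.  `K := P ⊔ Q`; since `P ≤ normalizer Q`, every element of `K` is `a * b`, `a ∈ P`, `b ∈ Q`
(`Subgroup.mem_sup_of_normal_right`-style: work in `↥(P ⊔ Q)` or `↥(normalizer Q)` where `Q` is
normal, e.g. `Subgroup.mul_normal`, `Subgroup.mem_sup`/`Subgroup.normal_mul`).  `K` is nilpotent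
(`IsPGroup.isNilpotent`), so it satisfies the normalizer condition
(`Group.normalizerCondition_of_isNilpotent`, cf. `Helper3.CSE.card_lt_normalizerIn` in
`Lib/CSE/CSEBasic.lean` for the same argument): `P.subgroupOf K < ⊤` gives `g ∈ K` normalizing `P`,
`g ∉ P`.  Write `g = a * b`; then `b = a⁻¹ * g ∈ Q` normalizes `P` and `b ∉ P`.
Aux names: prefix `csxng_`.
-/

set_option autoImplicit false

namespace Cfsg.Agent.Helper5.CSX

theorem exists_normalizer_mem {G : Type*} [Group G] (p : ℕ) [Fact p.Prime] {P Q : Subgroup G}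
    [Finite ↥(P ⊔ Q)] (hp : IsPGroup p ↥(P ⊔ Q))
    (hPQ : P ≤ Subgroup.normalizer (Q : Set G)) (hQP : ¬ Q ≤ P) :
    ∃ g ∈ Q, g ∈ Subgroup.normalizer (P : Set G) ∧ g ∉ P := by
  have hPK : P ≤ P ⊔ Q := le_sup_left
  have hQK : Q ≤ P ⊔ Q := le_sup_right
  have hnil : Group.IsNilpotent ↥(P ⊔ Q) := hp.isNilpotent
  have hNC : NormalizerCondition ↥(P ⊔ Q) := Group.normalizerCondition_of_isNilpotent
  have hlt : P.subgroupOf (P ⊔ Q) < ⊤ := by
    rw [lt_top_iff_ne_top]
    intro h
    rw [Subgroup.subgroupOf_eq_top] at h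
    exact hQP (hQK.trans h)
  have h2 := hNC _ hlt
  obtain ⟨x, hxN, hxH⟩ := SetLike.exists_of_lt h2
  -- `x` normalizes `P`
  have hxnorm : (x : G) ∈ Subgroup.normalizer (P : Set G) := by
    rw [Subgroup.mem_normalizer_iff]
    rw [Subgroup.mem_normalizer_iff] at hxN
    intro r
    constructor
    · intro hr
      have := (hxN ⟨r, hPK hr⟩).1 (Subgroup.mem_subgroupOf.2 hr)
      rw [Subgroup.mem_subgroupOf] at this
      simpa using this
    · intro hr
      have hrT : r ∈ P ⊔ Q := by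
        have h3 : (x : G)⁻¹ * ((x : G) * r * (x : G)⁻¹) * (x : G) ∈ P ⊔ Q :=
          mul_mem (mul_mem (inv_mem x.2) (hPK hr)) x.2
        have e : (x : G)⁻¹ * ((x : G) * r * (x : G)⁻¹) * (x : G) = r := by group
        rwa [e] at h3
      have := (hxN ⟨r, hrT⟩).2 (by
        rw [Subgroup.mem_subgroupOf]
        simpa using hr)
      rw [Subgroup.mem_subgroupOf] at this
      simpa using this
  have hxP : (x : G) ∉ P := fun h => hxH (Subgroup.mem_subgroupOf.2 h)
  -- decompose `x = a * b`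
  have hxmem : (x : G) ∈ ((P ⊔ Q : Subgroup G) : Set G) := x.2
  rw [Subgroup.coe_mul_of_left_le_normalizer_right P Q hPQ] at hxmem
  obtain ⟨a, ha, b, hb, hab⟩ := Set.mem_mul.mp hxmem
  have ha' : a ∈ P := ha
  have hb' : b ∈ Q := hb
  have hbeq : b = a⁻¹ * (x : G) := by rw [← hab]; group
  refine ⟨b, hb', ?_, ?_⟩
  · rw [hbeq]
    exact Subgroup.mul_mem _ (Subgroup.inv_mem _ (Subgroup.le_normalizer ha')) hxnorm
  · intro hbP
    apply hxP
    rw [← hab]
    exact P.mul_mem ha' hbP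

end Cfsg.Agent.Helper5.CSX
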