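import Mathlib
import Cfsg.Agent.Lib.CSX.CSXDefs2
import Cfsg.Agent.Lib.CSX.CSXNG
import Cfsg.Agent.Lib.Helper3.OliverB1
import Cfsg.Agent.Lib.Helper25.FusionInvariant

/-!
# S5127 piece CSX-ACENT: for a good `U`, `U ⊓ T` contains its centralizer in `T`
RECIPE.  `R := U ⊓ T`, `D := centralizerIn T R`; suppose `¬ D ≤ U` (if `D ≤ U` then
`D ≤ U ⊓ T` since `D ≤ T`).  `U` normalizes `D`: `u ∈ U ≤ S` normalizes `T`
(`Helper25.mem_normalizer_of_stronglyClosed hT`) and `U`, hence `R` and `C_T(R)`.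
`exists_normalizer_mem p (P := U) (Q := D) _ _ _` (`U ⊔ D ≤ S` is a finite `p`-group) gives
`d ∈ D` normalizing `U`, `d ∉ U`; `d ∈ S`.  Now repeat the proof of `Helper3.OL.mem_of_stab`
(`Lib/Helper3/OliverB1.lean`), with `hU.inn` in place of `le_inn_of_normal hP` and `hU.cen` for
centricity: `a : normalizerIn S U := ⟨d, _⟩`, `W := R.subgroupOf U` (as a subgroup of `↥U`);
`W` is `Aut_F(U)`-invariant (`α w ∈ U`, and `∈ T` by strong closure: restrict the `F`-map `α` to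
`U ⊓ T`); `Helper3.OL.kapN U a ∈ stab W` because `d` centralizes `R` and `[U, d] ≤ U ⊓ T`
(`u⁻¹... ∈ T` as `d ∈ T` and `T` is normalized by `u`; `∈ U` as `d` normalizes `U`) — check the
definition of `stab` (imported through `OliverB1`: `Cfsg.Agent.Helper3...stab`) for the exact shape;
`C := stab W ⊓ F.autGroup U` is a normal `p`-subgroup of `Aut_F(U)` (`isPGroup_stab'`, `stab_conj`),
so `C ≤ Inn U` by `hU.inn`, and `Helper3.OL.mem_of_kapN_mem_inn hU.fn.1 hU.cen a _ : d ∈ U`.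
Contradiction.  Aux names: prefix `csxacent_`.
-/

set_option autoImplicit false

namespace Cfsg.Agent.Helper5.CSX

open Cfsg Cfsg.FusionSystem Cfsg.Agent.Helper25 Cfsg.Agent.Helper3.CSE

variable {Ω : Type*} [Group Ω] {S : Subgroup Ω}

/-- an element normalizing `T` and `R` conjugates `C_T(R)` into itself -/
theorem csxacent_conj_mem {T R : Subgroup Ω} {g : Ω} (hgT : g ∈ Subgroup.normalizer (T : Set Ω))
    (hgR : g ∈ Subgroup.normalizer (R : Set Ω)) {y : Ω} (hy : y ∈ centralizerIn T R) :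
    g * y * g⁻¹ ∈ centralizerIn T R := by
  rw [mem_centralizerIn] at hy ⊢
  refine ⟨(Subgroup.mem_normalizer_iff.1 hgT y).1 hy.1, fun r hr => ?_⟩
  have hr' : g⁻¹ * r * g ∈ R := (Subgroup.mem_normalizer_iff''.1 hgR r).1 hr
  have h1 := hy.2 _ hr'
  calc r * (g * y * g⁻¹) = g * ((g⁻¹ * r * g) * y) * g⁻¹ := by group
    _ = g * (y * (g⁻¹ * r * g)) * g⁻¹ := by rw [h1]
    _ = g * y * g⁻¹ * r := by group

theorem centralizerIn_inf_le [Finite S] (p : ℕ) [Fact p.Prime] (hS : IsPGroup p S)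
    (F : FusionSystem S) {T U : Subgroup Ω} (hT : F.StronglyClosed T) (hU : GoodU p F T U) :
    centralizerIn T (U ⊓ T) ≤ U ⊓ T := by
  have hUS : U ≤ S := hU.fn.1
  have hTS : T ≤ S := hT.1
  have hDT : centralizerIn T (U ⊓ T) ≤ T := inf_le_left
  by_contra hcon
  have hDU : ¬ centralizerIn T (U ⊓ T) ≤ U := fun h => hcon (le_inf h hDT)
  -- `U` normalizes `D`
  have hnormR : ∀ g ∈ S, g ∈ Subgroup.normalizer (U : Set Ω) →
      g ∈ Subgroup.normalizer ((U ⊓ T : Subgroup Ω) : Set Ω) := by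
    intro g hgS hgU
    have hgT : g ∈ Subgroup.normalizer (T : Set Ω) := mem_normalizer_of_stronglyClosed hT hgS
    rw [Subgroup.mem_normalizer_iff]
    intro h
    rw [Subgroup.mem_inf, Subgroup.mem_inf, ← Subgroup.mem_normalizer_iff.1 hgU h,
      ← Subgroup.mem_normalizer_iff.1 hgT h]
  have hUD : U ≤ Subgroup.normalizer ((centralizerIn T (U ⊓ T) : Subgroup Ω) : Set Ω) := by
    intro u hu
    have huS : u ∈ S := hUS hu
    have huT : u ∈ Subgroup.normalizer (T : Set Ω) := mem_normalizer_of_stronglyClosed hT huS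
    have huR := hnormR u huS (Subgroup.le_normalizer hu)
    apply mem_normalizer_of_forall
    · intro y hy
      exact csxacent_conj_mem huT huR hy
    · intro y hy
      have := csxacent_conj_mem (inv_mem huT) (inv_mem huR) hy
      simpa using this
  have hsupS : U ⊔ centralizerIn T (U ⊓ T) ≤ S := sup_le hUS (hDT.trans hTS)
  have hfin : Finite ↥(U ⊔ centralizerIn T (U ⊓ T)) := finite_of_le_finite hsupS
  have hpg : IsPGroup p ↥(U ⊔ centralizerIn T (U ⊓ T)) := hS.to_le hsupS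
  obtain ⟨d, hdD, hdN, hdU⟩ := exists_normalizer_mem p hpg hUD hDU
  have hdT : d ∈ T := hDT hdD
  have hdS : d ∈ S := hTS hdT
  have hdC : ∀ x ∈ U ⊓ T, x * d = d * x := (mem_centralizerIn.1 hdD).2
  -- now the argument of `mem_of_stab`
  apply hdU
  have hfinU : Finite U := finite_of_le_finite hUS
  have hUp : IsPGroup p U := hS.to_le hUS
  let a : ↥(normalizerIn S U) := ⟨d, Subgroup.mem_inf.2 ⟨hdS, hdN⟩⟩
  let W : Subgroup ↥U := (U ⊓ T).subgroupOf U
  have hW : ∀ α ∈ F.autGroup U, ∀ w ∈ W, α w ∈ W := by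
    intro α hα w hw
    have hw' : (w : Ω) ∈ U ⊓ T := hw
    show ((α w : U) : Ω) ∈ U ⊓ T
    refine Subgroup.mem_inf.2 ⟨(α w).2, ?_⟩
    have h1 : U.subtype.comp α.toMonoidHom ∈ F.Hom U := (mem_autGroup_iff F hUS α).1 hα
    have h2 : (U.subtype.comp α.toMonoidHom).comp (Subgroup.inclusion (inf_le_left : U ⊓ T ≤ U)) ∈
        F.Hom (U ⊓ T) := restrict_mem F inf_le_left h1
    have h3 := hT.2 (U ⊓ T) inf_le_right _ h2 ⟨(w : Ω), hw'⟩
    have e : ((U.subtype.comp α.toMonoidHom).comp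
        (Subgroup.inclusion (inf_le_left : U ⊓ T ≤ U))) ⟨(w : Ω), hw'⟩ = ((α w : U) : Ω) := by
      show ((α (Subgroup.inclusion (inf_le_left : U ⊓ T ≤ U) ⟨(w : Ω), hw'⟩) : U) : Ω) =
        ((α w : U) : Ω)
      congr 2
    rwa [e] at h3
  have ha : Cfsg.Agent.Helper3.OL.kapN U a ∈ Cfsg.Agent.Helper3.TT.stab W := by
    rw [Cfsg.Agent.Helper3.TT.mem_stab]
    constructor
    · intro w hw
      have hw' : (w : Ω) ∈ U ⊓ T := hw
      apply Subtype.ext
      rw [Cfsg.Agent.Helper3.OL.kapN_apply]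
      show d * (w : Ω) * d⁻¹ = (w : Ω)
      rw [← hdC _ hw', mul_inv_cancel_right]
    · intro e
      show (((Cfsg.Agent.Helper3.OL.kapN U a e * e⁻¹ : U)) : Ω) ∈ U ⊓ T
      refine Subgroup.mem_inf.2 ⟨(Cfsg.Agent.Helper3.OL.kapN U a e * e⁻¹).2, ?_⟩
      rw [Subgroup.coe_mul, Cfsg.Agent.Helper3.OL.kapN_apply, Subgroup.coe_inv]
      show d * (e : Ω) * d⁻¹ * (e : Ω)⁻¹ ∈ T
      have heT : (e : Ω) ∈ Subgroup.normalizer (T : Set Ω) :=
        mem_normalizer_of_stronglyClosed hT (hUS e.2)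
      have h1 : (e : Ω) * d⁻¹ * (e : Ω)⁻¹ ∈ T :=
        (Subgroup.mem_normalizer_iff.1 heT d⁻¹).1 (inv_mem hdT)
      have e1 : d * (e : Ω) * d⁻¹ * (e : Ω)⁻¹ = d * ((e : Ω) * d⁻¹ * (e : Ω)⁻¹) := by group
      rw [e1]
      exact mul_mem hdT h1
  have hCn : ((Cfsg.Agent.Helper3.TT.stab W ⊓ F.autGroup U).subgroupOf (F.autGroup U)).Normal := by
    constructor
    rintro ⟨h, hhA⟩ hh ⟨α, hα⟩
    have hh' : h ∈ Cfsg.Agent.Helper3.TT.stab W ⊓ F.autGroup U := Subgroup.mem_subgroupOf.mp hh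
    apply Subgroup.mem_subgroupOf.mpr
    show α * h * α⁻¹ ∈ Cfsg.Agent.Helper3.TT.stab W ⊓ F.autGroup U
    refine ⟨?_, (F.autGroup U).mul_mem ((F.autGroup U).mul_mem hα hhA) ((F.autGroup U).inv_mem hα)⟩
    have hmap : W.map α.toMonoidHom = W := by
      apply Subgroup.eq_of_le_of_card_ge
      · rintro _ ⟨w, hw, rfl⟩
        exact hW α hα w hw
      · rw [Subgroup.card_map_of_injective α.injective]
    have := Cfsg.Agent.Helper3.OL.stab_conj α h hh'.1
    rwa [hmap] at this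
  have hCp : IsPGroup p ↥(Cfsg.Agent.Helper3.TT.stab W ⊓ F.autGroup U) :=
    (Cfsg.Agent.Helper3.OL.isPGroup_stab' hUp W).to_le inf_le_left
  have hCle := hU.inn (Cfsg.Agent.Helper3.TT.stab W ⊓ F.autGroup U) inf_le_right hCn hCp
  have hmemC : Cfsg.Agent.Helper3.OL.kapN U a ∈ Cfsg.Agent.Helper3.TT.stab W ⊓ F.autGroup U :=
    ⟨ha, autInducedBy_le_autGroup F hUS (Cfsg.Agent.Helper3.OL.kapN_mem a)⟩
  exact Cfsg.Agent.Helper3.OL.mem_of_kapN_mem_inn hUS hU.cen a (hCle hmemC)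

end Cfsg.Agent.Helper5.CSX
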