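import Mathlib
import Cfsg.Agent.Lib.CSX.CSXDefs2

/-!
# S5127 piece CSX-AESUB: the elements of `Aut_F(U)` with `AEpred` form a subgroup `aE F E U`
RECIPES (replace the three `sorry`s in the structure fields; keep the `carrier`).
Write `a u` for `((a : MulAut U) u : Ω)`.
`one_mem'`: `u⁻¹ * u = 1 ∈ T`; `η := 1`.
`mul_mem'`: `u⁻¹ * (a * b) u = (u⁻¹ * b u) * ((b u)⁻¹ * a (b u))` (group), both factors in `T`;
`η := η_a * η_b` (`(E.autGroup _).mul_mem`), values: `(η_a (η_b r) : Ω) = a (η_b r) = a (b r)` — the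
second step rewrites the argument, use `Subtype.ext` to identify `⟨(η_b r : Ω), _⟩` with `b ⟨r, _⟩`.
`inv_mem'`: with `v := a⁻¹ u`: `v⁻¹ * a v = (a⁻¹ u)⁻¹ * u ∈ T`, invert; `η := η_a⁻¹`, and
`η_a⁻¹ r = a⁻¹ r` because `a (η_a⁻¹ r) = η_a (η_a⁻¹ r) = r` and `a` is injective.
Aux names: prefix `csxaesub_`.
-/

set_option autoImplicit false

namespace Cfsg.Agent.Helper5.CSX

open Cfsg Cfsg.FusionSystem Cfsg.Agent.Helper25 Cfsg.Agent.Helper3.CSE

variable {Ω : Type*} [Group Ω] {S : Subgroup Ω}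

/-- `A_E(U)`: the elements `a` of `Aut_F(U)` with `[U, a] ≤ T` inducing an element of
`Aut_E(U ⊓ T)`. -/
def aE (F : FusionSystem S) {T : Subgroup Ω} (E : FusionSystem T) (U : Subgroup Ω) :
    Subgroup ↥(F.autGroup U) where
  carrier := {a | AEpred F E U a}
  mul_mem' := by
    intro a b ha hb
    change AEpred F E U a at ha
    change AEpred F E U b at hb
    change AEpred F E U (a * b)
    unfold AEpred at ha hb ⊢
    obtain ⟨ha1, ηa, hηa, hηa'⟩ := ha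
    obtain ⟨hb1, ηb, hηb, hηb'⟩ := hb
    have hcoe : ∀ u : U, (((a * b : ↥(F.autGroup U)) : MulAut U) u : U) =
        (a : MulAut U) ((b : MulAut U) u) := fun u => rfl
    refine ⟨fun u => ?_, ⟨ηa * ηb, (E.autGroup (U ⊓ T)).mul_mem hηa hηb, fun r => ?_⟩⟩
    · rw [hcoe]
      have h1 := hb1 u
      have h2 := ha1 ((b : MulAut U) u)
      have h3 := T.mul_mem h1 h2
      have e : (u : Ω)⁻¹ * (((b : MulAut U) u : U) : Ω) *
          ((((b : MulAut U) u : U) : Ω)⁻¹ * (((a : MulAut U) ((b : MulAut U) u) : U) : Ω)) =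
          (u : Ω)⁻¹ * (((a : MulAut U) ((b : MulAut U) u) : U) : Ω) := by group
      rw [e] at h3
      exact h3
    · rw [hcoe]
      have h1 : ((ηa * ηb) r : ↥(U ⊓ T)) = ηa (ηb r) := rfl
      rw [h1, hηa' (ηb r)]
      have h2 : (⟨((ηb r : ↥(U ⊓ T)) : Ω), (ηb r).2.1⟩ : U) = (b : MulAut U) ⟨(r : Ω), r.2.1⟩ :=
        Subtype.ext (hηb' r)
      rw [h2]
  one_mem' := by
    change AEpred F E U 1
    unfold AEpred
    refine ⟨fun u => ?_, ⟨1, (E.autGroup (U ⊓ T)).one_mem, fun r => rfl⟩⟩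
    have h1 : (((1 : ↥(F.autGroup U)) : MulAut U) u : U) = u := rfl
    rw [h1, inv_mul_cancel]
    exact T.one_mem
  inv_mem' := by
    intro a ha
    change AEpred F E U a at ha
    change AEpred F E U a⁻¹
    unfold AEpred at ha ⊢
    obtain ⟨ha1, ηa, hηa, hηa'⟩ := ha
    have hcoe : ∀ u : U, (((a⁻¹ : ↥(F.autGroup U)) : MulAut U) u : U) =
        (a : MulAut U)⁻¹ u := fun u => rfl
    refine ⟨fun u => ?_, ⟨ηa⁻¹, (E.autGroup (U ⊓ T)).inv_mem hηa, fun r => ?_⟩⟩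
    · rw [hcoe]
      have h1 := ha1 ((a : MulAut U)⁻¹ u)
      rw [MulAut.apply_inv_self] at h1
      have h2 := T.inv_mem h1
      have e : ((((a : MulAut U)⁻¹ u : U) : Ω)⁻¹ * (u : Ω))⁻¹ =
          (u : Ω)⁻¹ * (((a : MulAut U)⁻¹ u : U) : Ω) := by group
      rw [e] at h2
      exact h2
    · rw [hcoe]
      have h1 := hηa' (ηa⁻¹ r)
      rw [MulAut.apply_inv_self] at h1
      have h2 : (⟨(r : Ω), r.2.1⟩ : U) =
          (a : MulAut U) ⟨((ηa⁻¹ r : ↥(U ⊓ T)) : Ω), (ηa⁻¹ r).2.1⟩ := Subtype.ext h1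
      rw [h2, MulAut.inv_apply_self]

theorem mem_aE (F : FusionSystem S) {T : Subgroup Ω} (E : FusionSystem T) (U : Subgroup Ω)
    (a : ↥(F.autGroup U)) : a ∈ aE F E U ↔ AEpred F E U a := Iff.rfl

end Cfsg.Agent.Helper5.CSX
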