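import Mathlib
import Cfsg.Agent.Lib.CSX.CSXAESub
import Cfsg.Agent.Lib.Helper25.FusionInvariant

/-!
# S5127 piece CSX-AENORMAL: `aE F E U` is normal in `Aut_F(U)`
RECIPE.  Let `b ∈ F.autGroup U`, `a ∈ aE F E U`; show `AEpred F E U (b * a * b⁻¹)`.
`hT : F.StronglyClosed T := hinv.2.1`; `b` (an `F`-map on `U`, `Helper25.mem_autGroup_iff F hUS`)
maps `U ⊓ T` into `T`: restrict to `U ⊓ T` (`Helper25.restrict_mem`) and use `hT.2 (U ⊓ T)
inf_le_right`; same for `b⁻¹`.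
(1) `u⁻¹ * (b a b⁻¹) u = b (v⁻¹ * a v)` with `v := b⁻¹ u` (`map_mul`, `map_inv`), and
`v⁻¹ * a v ∈ U ⊓ T`, so its image under `b` is in `T`.
(2) `b` restricts to `b' : MulAut ↥(U ⊓ T)` (maps `U ⊓ T` into itself, injective, finite; or build the
inverse from `b⁻¹`), `b' ∈ F.autGroup (U ⊓ T)`.  `Helper25.strongInv_of_isInvariantIn hinv :
StrongInv F E` with `P := Q := U ⊓ T`, `φ := (U ⊓ T).subtype.comp η.toMonoidHom` (`η` the element of
`E.autGroup (U ⊓ T)` attached to `a`) and `ψ := (U ⊓ T).subtype.comp b'.toMonoidHom` gives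
`χ ∈ E.Hom (U ⊓ T)` (the image `(P.subgroupOf Q).map ψ` is `U ⊓ T`; transport with
`Helper25.hom_transport`) with `χ (b' r) = b' (η r)`; so `χ = b' η b'⁻¹` is the automorphism attached
to `b * a * b⁻¹` (`Helper25.mem_autGroup_iff E inf_le_right`).  Cf. `Helper3.CSE.bGrp_transport`
(`Lib/CSE/CSEBTrans.lean`) for the same use of `StrongInv`.
Aux names: prefix `csxaenormal_`.
-/

set_option autoImplicit false

namespace Cfsg.Agent.Helper5.CSX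

open Cfsg Cfsg.FusionSystem Cfsg.Agent.Helper25 Cfsg.Agent.Helper3.CSE

variable {Ω : Type*} [Group Ω] {S : Subgroup Ω}

/-- restriction to `U ⊓ T` of an automorphism of `U` which, together with its inverse, maps
`U ⊓ T` into `T` -/
def csxaenormal_res {U T : Subgroup Ω} (c : MulAut U)
    (hc : ∀ r : U, (r : Ω) ∈ T → ((c r : U) : Ω) ∈ T)
    (hc' : ∀ r : U, (r : Ω) ∈ T → ((c⁻¹ r : U) : Ω) ∈ T) : MulAut ↥(U ⊓ T) where
  toFun r := ⟨((c ⟨(r : Ω), r.2.1⟩ : U) : Ω), ⟨(c ⟨(r : Ω), r.2.1⟩).2, hc _ r.2.2⟩⟩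
  invFun r := ⟨((c⁻¹ ⟨(r : Ω), r.2.1⟩ : U) : Ω), ⟨(c⁻¹ ⟨(r : Ω), r.2.1⟩).2, hc' _ r.2.2⟩⟩
  left_inv r := by
    apply Subtype.ext
    show ((c⁻¹ ⟨((c ⟨(r : Ω), r.2.1⟩ : U) : Ω), _⟩ : U) : Ω) = (r : Ω)
    have h : (⟨((c ⟨(r : Ω), r.2.1⟩ : U) : Ω), (c ⟨(r : Ω), r.2.1⟩).2⟩ : U) =
        c ⟨(r : Ω), r.2.1⟩ := Subtype.ext rfl
    rw [h, MulAut.inv_apply_self]
  right_inv r := by
    apply Subtype.ext
    show ((c ⟨((c⁻¹ ⟨(r : Ω), r.2.1⟩ : U) : Ω), _⟩ : U) : Ω) = (r : Ω)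
    have h : (⟨((c⁻¹ ⟨(r : Ω), r.2.1⟩ : U) : Ω), (c⁻¹ ⟨(r : Ω), r.2.1⟩).2⟩ : U) =
        c⁻¹ ⟨(r : Ω), r.2.1⟩ := Subtype.ext rfl
    rw [h, MulAut.apply_inv_self]
  map_mul' x y := by
    apply Subtype.ext
    show ((c ⟨((x * y : ↥(U ⊓ T)) : Ω), _⟩ : U) : Ω) =
      ((c ⟨(x : Ω), x.2.1⟩ : U) : Ω) * ((c ⟨(y : Ω), y.2.1⟩ : U) : Ω)
    have h : (⟨((x * y : ↥(U ⊓ T)) : Ω), (x * y).2.1⟩ : U) =
        ⟨(x : Ω), x.2.1⟩ * ⟨(y : Ω), y.2.1⟩ := Subtype.ext rfl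
    rw [h, map_mul]
    rfl

theorem csxaenormal_res_apply {U T : Subgroup Ω} (c : MulAut U)
    (hc : ∀ r : U, (r : Ω) ∈ T → ((c r : U) : Ω) ∈ T)
    (hc' : ∀ r : U, (r : Ω) ∈ T → ((c⁻¹ r : U) : Ω) ∈ T) (r : ↥(U ⊓ T)) :
    ((csxaenormal_res c hc hc' r : ↥(U ⊓ T)) : Ω) = ((c ⟨(r : Ω), r.2.1⟩ : U) : Ω) := rfl

theorem csxaenormal_res_symm_apply {U T : Subgroup Ω} (c : MulAut U)
    (hc : ∀ r : U, (r : Ω) ∈ T → ((c r : U) : Ω) ∈ T)
    (hc' : ∀ r : U, (r : Ω) ∈ T → ((c⁻¹ r : U) : Ω) ∈ T) (r : ↥(U ⊓ T)) :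
    (((csxaenormal_res c hc hc').symm r : ↥(U ⊓ T)) : Ω) = ((c⁻¹ ⟨(r : Ω), r.2.1⟩ : U) : Ω) := rfl

theorem aE_normal [Finite S] (F : FusionSystem S) {T : Subgroup Ω} (E : FusionSystem T)
    (hinv : E.IsInvariantIn F) {U : Subgroup Ω} (hUS : U ≤ S) : (aE F E U).Normal := by
  constructor
  intro a ha b
  rw [mem_aE] at ha ⊢
  obtain ⟨ha1, η, hη, hηv⟩ := ha
  have hT : F.StronglyClosed T := hinv.2.1
  have hSI : StrongInv F E := strongInv_of_isInvariantIn hinv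
  -- every element of `Aut_F(U)` maps `U ⊓ T` into `T`
  have hmapT : ∀ (c : ↥(F.autGroup U)) (r : U), (r : Ω) ∈ T →
      (((c : MulAut U) r : U) : Ω) ∈ T := by
    intro c r hr
    have hc : U.subtype.comp (c : MulAut U).toMonoidHom ∈ F.Hom U :=
      (mem_autGroup_iff F hUS _).mp c.2
    have hres := restrict_mem F (inf_le_left : U ⊓ T ≤ U) hc
    exact hT.2 (U ⊓ T) inf_le_right _ hres ⟨(r : Ω), r.2, hr⟩
  have hb : ∀ r : U, (r : Ω) ∈ T → (((b : MulAut U) r : U) : Ω) ∈ T := hmapT b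
  have hb' : ∀ r : U, (r : Ω) ∈ T → (((b : MulAut U)⁻¹ r : U) : Ω) ∈ T := by
    intro r hr
    have := hmapT b⁻¹ r hr
    rwa [Subgroup.coe_inv] at this
  have hcoe : ((b * a * b⁻¹ : ↥(F.autGroup U)) : MulAut U) =
      (b : MulAut U) * (a : MulAut U) * (b : MulAut U)⁻¹ := by
    rw [Subgroup.coe_mul, Subgroup.coe_mul, Subgroup.coe_inv]
  have happ : ∀ u : U, ((b * a * b⁻¹ : ↥(F.autGroup U)) : MulAut U) u =
      (b : MulAut U) ((a : MulAut U) ((b : MulAut U)⁻¹ u)) := by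
    intro u
    rw [hcoe]
    rfl
  refine ⟨?_, ?_⟩
  · -- (1)
    intro u
    rw [happ]
    obtain ⟨v, hv⟩ : ∃ v : U, v = (b : MulAut U)⁻¹ u := ⟨_, rfl⟩
    rw [← hv]
    have hu : u = (b : MulAut U) v := by rw [hv, MulAut.apply_inv_self]
    have h1 : (u : Ω)⁻¹ * (((b : MulAut U) ((a : MulAut U) v) : U) : Ω) =
        (((b : MulAut U) (v⁻¹ * (a : MulAut U) v) : U) : Ω) := by
      rw [map_mul, map_inv, ← hu]
      rfl
    rw [h1]
    apply hb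
    exact ha1 v
  · -- (2)
    obtain ⟨b', hb'def⟩ : ∃ b' : MulAut ↥(U ⊓ T), b' = csxaenormal_res (b : MulAut U) hb hb' :=
      ⟨_, rfl⟩
    have hb'v : ∀ r : ↥(U ⊓ T), ((b' r : ↥(U ⊓ T)) : Ω) =
        (((b : MulAut U) ⟨(r : Ω), r.2.1⟩ : U) : Ω) := by
      intro r; rw [hb'def]; rfl
    have hb'sv : ∀ r : ↥(U ⊓ T), ((b'.symm r : ↥(U ⊓ T)) : Ω) =
        (((b : MulAut U)⁻¹ ⟨(r : Ω), r.2.1⟩ : U) : Ω) := by
      intro r; rw [hb'def]; rfl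
    have hbF : U.subtype.comp (b : MulAut U).toMonoidHom ∈ F.Hom U :=
      (mem_autGroup_iff F hUS _).mp b.2
    have hψ : (U ⊓ T).subtype.comp b'.toMonoidHom ∈ F.Hom (U ⊓ T) := by
      have hres := restrict_mem F (inf_le_left : U ⊓ T ≤ U) hbF
      have heq : (U ⊓ T).subtype.comp b'.toMonoidHom =
          (U.subtype.comp (b : MulAut U).toMonoidHom).comp
            (Subgroup.inclusion (inf_le_left : U ⊓ T ≤ U)) := by
        ext r
        exact hb'v r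
      rw [heq]
      exact hres
    have hφ : (U ⊓ T).subtype.comp η.toMonoidHom ∈ E.Hom (U ⊓ T) :=
      (mem_autGroup_iff E inf_le_right η).mp hη
    have hφQ : ∀ x : ↥(U ⊓ T), ((U ⊓ T).subtype.comp η.toMonoidHom) x ∈ U ⊓ T :=
      fun x => (η x).2
    obtain ⟨χ, hχ, hχv⟩ := hSI (U ⊓ T) (U ⊓ T) le_rfl inf_le_right _ hφ hφQ _ hψ
    have hA : U ⊓ T = ((U ⊓ T).subgroupOf (U ⊓ T)).map
        ((U ⊓ T).subtype.comp b'.toMonoidHom) := by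
      ext y
      constructor
      · intro hy
        refine ⟨b'.symm ⟨y, hy⟩, ?_, ?_⟩
        · rw [SetLike.mem_coe, Subgroup.mem_subgroupOf]
          exact (b'.symm ⟨y, hy⟩).2
        · show ((b' (b'.symm ⟨y, hy⟩) : ↥(U ⊓ T)) : Ω) = y
          rw [MulEquiv.apply_symm_apply]
      · rintro ⟨x, -, rfl⟩
        exact (b' x).2
    have hχ' := hom_transport E hA hχ
    refine ⟨b' * η * b'⁻¹, ?_, ?_⟩
    · rw [mem_autGroup_iff E inf_le_right]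
      have heq : (U ⊓ T).subtype.comp (b' * η * b'⁻¹).toMonoidHom =
          χ.comp (Subgroup.inclusion hA.le) := by
        ext y
        show (((b' * η * b'⁻¹) y : ↥(U ⊓ T)) : Ω) = χ (Subgroup.inclusion hA.le y)
        have hx : ((U ⊓ T).subtype.comp b'.toMonoidHom)
            (Subgroup.inclusion (le_refl (U ⊓ T)) (b'.symm y)) ∈
            ((U ⊓ T).subgroupOf (U ⊓ T)).map ((U ⊓ T).subtype.comp b'.toMonoidHom) :=
          ⟨b'.symm y, by rw [SetLike.mem_coe, Subgroup.mem_subgroupOf]; exact (b'.symm y).2, rfl⟩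
        have h1 := hχv (b'.symm y) hx
        have h2 : Subgroup.inclusion hA.le y =
            ⟨((U ⊓ T).subtype.comp b'.toMonoidHom)
              (Subgroup.inclusion (le_refl (U ⊓ T)) (b'.symm y)), hx⟩ := by
          apply Subtype.ext
          show (y : Ω) = ((b' (b'.symm y) : ↥(U ⊓ T)) : Ω)
          rw [MulEquiv.apply_symm_apply]
        rw [h2, h1]
        rfl
      rw [heq]
      exact hχ'
    · intro r
      rw [happ]
      show ((b' (η (b'.symm r)) : ↥(U ⊓ T)) : Ω) = _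
      rw [hb'v]
      have h3 : (⟨((b'.symm r : ↥(U ⊓ T)) : Ω), (b'.symm r).2.1⟩ : U) =
          (b : MulAut U)⁻¹ ⟨(r : Ω), r.2.1⟩ := Subtype.ext (hb'sv r)
      have h5 : (⟨((η (b'.symm r) : ↥(U ⊓ T)) : Ω), (η (b'.symm r)).2.1⟩ : U) =
          (a : MulAut U) ((b : MulAut U)⁻¹ ⟨(r : Ω), r.2.1⟩) := by
        apply Subtype.ext
        show ((η (b'.symm r) : ↥(U ⊓ T)) : Ω) = _
        rw [hηv, h3]
      rw [h5]

end Cfsg.Agent.Helper5.CSX
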