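import Mathlib
import Cfsg.Agent.Lib.CSX.CSXDefs2

/-!
# S5127 piece CSX-PRESSUB: the elements of `Aut_F(U)` preserving `cSE F E` form a subgroup
RECIPES (replace the three `sorry`s; keep the `carrier`).  `Pres F E U φ` is
`∀ x : U, (x : Ω) ∈ cSE F E ↔ φ x ∈ cSE F E`, and `(U.subtype.comp a.toMonoidHom) x = (a x : Ω)`.
`one_mem'`: `Iff.rfl`.  `mul_mem'`: `(hb x).trans (ha (b x))`.  `inv_mem'`: `(ha (a⁻¹ x)).symm` after
rewriting `a (a⁻¹ x) = x` (`MulAut.apply_inv_self`).  Aux names: prefix `csxpressub_`.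
-/

set_option autoImplicit false

namespace Cfsg.Agent.Helper5.CSX

open Cfsg Cfsg.FusionSystem Cfsg.Agent.Helper25 Cfsg.Agent.Helper3.CSE

variable {Ω : Type*} [Group Ω] {S : Subgroup Ω}

/-- The subgroup of `Aut_F(U)` of automorphisms preserving `cSE F E` both ways. -/
def presSub (F : FusionSystem S) {T : Subgroup Ω} (E : FusionSystem T) (U : Subgroup Ω) :
    Subgroup ↥(F.autGroup U) where
  carrier := {a | Pres F E U (U.subtype.comp (a : MulAut U).toMonoidHom)}
  mul_mem' := by
    intro a b ha hb x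
    exact (hb x).trans (ha ((b : MulAut U) x))
  one_mem' := by
    intro x
    exact Iff.rfl
  inv_mem' := by
    intro a ha x
    have h := ha (((a : MulAut U)⁻¹) x)
    have e : (U.subtype.comp (a : MulAut U).toMonoidHom) (((a : MulAut U)⁻¹) x) = (x : Ω) := by
      show (((a : MulAut U) (((a : MulAut U)⁻¹) x) : U) : Ω) = (x : Ω)
      rw [MulAut.apply_inv_self]
    rw [e] at h
    exact h.symm

theorem mem_presSub (F : FusionSystem S) {T : Subgroup Ω} (E : FusionSystem T) (U : Subgroup Ω)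
    (a : ↥(F.autGroup U)) :
    a ∈ presSub F E U ↔ Pres F E U (U.subtype.comp (a : MulAut U).toMonoidHom) := Iff.rfl

end Cfsg.Agent.Helper5.CSX
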