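import Mathlib
import Cfsg.Agent.Lib.CSX.CSXAESub
import Cfsg.Agent.Lib.CSX.CSXPresSub
import Cfsg.Agent.Lib.CSX.CSXNG
import Cfsg.Agent.Lib.Helper25.FusionSat3
import Cfsg.Agent.Lib.Helper25.FusionAut
import Cfsg.Agent.Lib.Helper25.FusionInvariant

/-!
# S5127 piece CSX-EXTV: an element of `Aut_F(U)` normalizing `Aut_S(U) ∩ aE` preserves `cSE`
(`U` good, `T ≰ U`): it extends to a strictly larger subgroup, where the induction hypothesis applies.
RECIPE.  `hUS := hU.fn.1`, `hT := hE.1.2.2.2.1`, `hTS := hT.1`.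
`Helper25.of_fullyNormalized p hS F hF hU.fn` gives `hrec : F.IsReceptive U`.
`φ := U.subtype.comp (ν : MulAut U).toMonoidHom ∈ F.Hom U` (`Helper25.mem_autGroup_iff`),
`φ.range = U`; `hrec.2 U φ hφ hrange` gives `ψ ∈ F.Hom (extender S U φ)` agreeing with `φ` on `U`
(cf. `Helper3.CSE.exists_ext_normalizerIn`, `Lib/CSE/CSEExtN.lean`, for this pattern).
(1) `U ≤ extender S U φ`: for `g ∈ U` the witness is `h := ν g` (`ν (g x g⁻¹) = ν g * ν x * (ν g)⁻¹`);
use `Subgroup.subset_closure` in the definition of `extender`.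
(2) A bigger element: `exists_normalizer_mem p (P := U) (Q := T) _ _ hTU` (`U ⊔ T ≤ S` finite
`p`-group; `U ≤ S` normalizes `T`: `Helper25.mem_normalizer_of_stronglyClosed hT`) gives `g ∈ T`
normalizing `U`, `g ∉ U`.  `c := U.normalizerMonoidHom ⟨g, _⟩ : MulAut U` is in `autInducedBy S U`
(`Helper25.mem_autInducedBy_iff`), in `F.autGroup U` (`Helper25.autInducedBy_le_autGroup`), and
`⟨c, _⟩ ∈ aE F E U`: `u⁻¹ * (g u g⁻¹) ∈ T` (`u⁻¹ g u ∈ T`, `g⁻¹ ∈ T`); `η :=` conjugation by `g` on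
`U ⊓ T`, in `autInducedBy T (U ⊓ T) ≤ E.autGroup (U ⊓ T)` (`Helper25.autInducedBy_le_autGroup E`).
By `hν` (`Subgroup.mem_normalizer_iff`), `ν * ⟨c,_⟩ * ν⁻¹` is again in the intersection, in
particular in `autInducedBy S U`: there is `h ∈ S` with `ν (g (ν⁻¹ y) g⁻¹) = h y h⁻¹`, i.e.
`ν (g x g⁻¹) = h (ν x) h⁻¹`; so `g ∈ extender S U φ` (`Subgroup.subset_closure`).
(3) Hence `Nat.card U < Nat.card (extender S U φ)` (`U ≤` it, `g ∈` it, `g ∉ U`;
`Subgroup.card_lt_of_lt`-style, finiteness from `extender ≤ S`: every generator is in `S`).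
`IH _ ψ hψ _ : Pres F E (extender S U φ) ψ`; for `x : U`, `ψ ⟨x, _⟩ = φ x = ν x`: this is
`mem_presSub`.  Aux names: prefix `csxextv_`.
-/

set_option autoImplicit false

namespace Cfsg.Agent.Helper5.CSX

open Cfsg Cfsg.FusionSystem Cfsg.Agent.Helper25 Cfsg.Agent.Helper3.CSE

variable {Ω : Type*} [Group Ω] {S : Subgroup Ω}

theorem normalizer_le_presSub [Finite S] (p : ℕ) [Fact p.Prime] (hS : IsPGroup p S)
    (F : FusionSystem S) (hF : F.IsSaturated p) {T : Subgroup Ω} (E : FusionSystem T)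
    (hE : E.IsNormalIn F p) {U : Subgroup Ω} (hU : GoodU p F T U) (hTU : ¬ T ≤ U)
    (IH : ∀ (P : Subgroup Ω) (φ : P →* Ω), φ ∈ F.Hom P → Nat.card U < Nat.card P →
      Pres F E P φ)
    (ν : ↥(F.autGroup U))
    (hν : ν ∈ Subgroup.normalizer
      ((((autInducedBy S U).subgroupOf (F.autGroup U) ⊓ aE F E U : Subgroup ↥(F.autGroup U))) :
        Set ↥(F.autGroup U))) :
    ν ∈ presSub F E U := by
  have hUS : U ≤ S := hU.fn.1
  have hT : F.StronglyClosed T := hE.1.2.2.2.1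
  have hTS : T ≤ S := hT.1
  obtain ⟨-, -, hrec⟩ := Helper25.of_fullyNormalized p hS F hF hU.fn
  have hφ : U.subtype.comp (ν : MulAut U).toMonoidHom ∈ F.Hom U :=
    (Helper25.mem_autGroup_iff F hUS (ν : MulAut U)).1 ν.2
  have hrange : (U.subtype.comp (ν : MulAut U).toMonoidHom).range = U := by
    ext y
    constructor
    · rintro ⟨x, rfl⟩
      exact ((ν : MulAut U) x).2
    · intro hy
      refine ⟨(ν : MulAut U).symm ⟨y, hy⟩, ?_⟩
      show (((ν : MulAut U) ((ν : MulAut U).symm ⟨y, hy⟩) : U) : Ω) = y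
      rw [MulEquiv.apply_symm_apply]
  obtain ⟨ψ, hψ, hψe⟩ := hrec.2 U _ hφ hrange
  -- (1) `U` is inside the extender
  have hUext : U ≤ extender S U (U.subtype.comp (ν : MulAut U).toMonoidHom) := by
    intro g hg
    apply Subgroup.subset_closure
    refine ⟨hUS hg, Subgroup.le_normalizer hg, (((ν : MulAut U) ⟨g, hg⟩ : U) : Ω),
      hUS ((ν : MulAut U) ⟨g, hg⟩).2, ?_⟩
    intro x hx
    show (((ν : MulAut U) ⟨g * (x : Ω) * g⁻¹, hx⟩ : U) : Ω)
      = (((ν : MulAut U) ⟨g, hg⟩ : U) : Ω) * (((ν : MulAut U) x : U) : Ω)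
        * (((ν : MulAut U) ⟨g, hg⟩ : U) : Ω)⁻¹
    have e : (⟨g * (x : Ω) * g⁻¹, hx⟩ : U) = ⟨g, hg⟩ * x * (⟨g, hg⟩ : U)⁻¹ := Subtype.ext rfl
    rw [e, map_mul, map_mul, map_inv]
    rfl
  -- (2) a bigger element
  have : Finite ↥(U ⊔ T) := Helper25.finite_of_le_finite (sup_le hUS hTS)
  have hpUT : IsPGroup p ↥(U ⊔ T) := hS.to_le (sup_le hUS hTS)
  have hUnT : U ≤ Subgroup.normalizer (T : Set Ω) :=
    fun g hg => Helper25.mem_normalizer_of_stronglyClosed hT (hUS hg)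
  obtain ⟨g, hgT, hgN, hgU⟩ := exists_normalizer_mem p hpUT hUnT hTU
  have hcS : U.normalizerMonoidHom ⟨g, hgN⟩ ∈ autInducedBy S U :=
    (Helper25.mem_autInducedBy_iff _).mpr ⟨g, hTS hgT, fun x => rfl⟩
  have hcF : U.normalizerMonoidHom ⟨g, hgN⟩ ∈ F.autGroup U :=
    Helper25.autInducedBy_le_autGroup F hUS hcS
  have hgNUT : g ∈ Subgroup.normalizer ((U ⊓ T : Subgroup Ω) : Set Ω) := by
    rw [Subgroup.mem_normalizer_iff]
    intro h
    have h1 := Subgroup.mem_normalizer_iff.mp hgN h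
    have h2 := Subgroup.mem_normalizer_iff.mp (Subgroup.le_normalizer hgT) h
    rw [Subgroup.mem_inf, Subgroup.mem_inf, h1, h2]
  have hcAE : (⟨U.normalizerMonoidHom ⟨g, hgN⟩, hcF⟩ : ↥(F.autGroup U)) ∈ aE F E U := by
    rw [mem_aE]
    refine ⟨fun u => ?_, (U ⊓ T).normalizerMonoidHom ⟨g, hgNUT⟩, ?_, fun r => rfl⟩
    · show (u : Ω)⁻¹ * (g * (u : Ω) * g⁻¹) ∈ T
      have h1 : (u : Ω)⁻¹ * g * ((u : Ω)⁻¹)⁻¹ ∈ T :=
        (Subgroup.mem_normalizer_iff.mp (inv_mem (hUnT u.2)) g).mp hgT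
      rw [inv_inv] at h1
      have e : (u : Ω)⁻¹ * (g * (u : Ω) * g⁻¹) = ((u : Ω)⁻¹ * g * (u : Ω)) * g⁻¹ := by group
      rw [e]
      exact T.mul_mem h1 (T.inv_mem hgT)
    · apply Helper25.autInducedBy_le_autGroup E (inf_le_right : U ⊓ T ≤ T)
      exact (Helper25.mem_autInducedBy_iff _).mpr ⟨g, hgT, fun x => rfl⟩
  have hconj := (Subgroup.mem_normalizer_iff.mp hν
    (⟨U.normalizerMonoidHom ⟨g, hgN⟩, hcF⟩ : ↥(F.autGroup U))).mp
      (Subgroup.mem_inf.mpr ⟨Subgroup.mem_subgroupOf.mpr hcS, hcAE⟩)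
  have hconjS : (ν : MulAut U) * U.normalizerMonoidHom ⟨g, hgN⟩ * (ν : MulAut U)⁻¹
      ∈ autInducedBy S U := Subgroup.mem_subgroupOf.mp (Subgroup.mem_inf.mp hconj).1
  obtain ⟨h, hhS, hh⟩ := (Helper25.mem_autInducedBy_iff _).mp hconjS
  have hgext : g ∈ extender S U (U.subtype.comp (ν : MulAut U).toMonoidHom) := by
    apply Subgroup.subset_closure
    refine ⟨hTS hgT, hgN, h, hhS, fun x hx => ?_⟩
    have h2 := hh ((ν : MulAut U) x)
    show (((ν : MulAut U) ⟨g * (x : Ω) * g⁻¹, hx⟩ : U) : Ω)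
      = h * (((ν : MulAut U) x : U) : Ω) * h⁻¹
    rw [← h2]
    show _ = (((ν : MulAut U) ((U.normalizerMonoidHom ⟨g, hgN⟩)
      ((ν : MulAut U)⁻¹ ((ν : MulAut U) x))) : U) : Ω)
    have h3 : (ν : MulAut U)⁻¹ ((ν : MulAut U) x) = x := (ν : MulAut U).symm_apply_apply x
    rw [h3]
    rfl
  -- (3) cardinalities
  have hextS : extender S U (U.subtype.comp (ν : MulAut U).toMonoidHom) ≤ S := by
    unfold extender
    rw [Subgroup.closure_le]
    intro k hk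
    exact hk.1
  have : Finite ↥(extender S U (U.subtype.comp (ν : MulAut U).toMonoidHom)) :=
    Helper25.finite_of_le_finite hextS
  have hcard : Nat.card U
      < Nat.card ↥(extender S U (U.subtype.comp (ν : MulAut U).toMonoidHom)) := by
    by_contra hcon
    rw [not_lt] at hcon
    have := Subgroup.eq_of_le_of_card_ge hUext hcon
    rw [← this] at hgext
    exact hgU hgext
  have hIH := IH _ ψ hψ hcard
  rw [mem_presSub]
  intro x
  have h4 := hIH ⟨(x : Ω), hUext x.2⟩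
  rw [hψe (x : Ω) x.2 (hUext x.2)] at h4
  exact h4

end Cfsg.Agent.Helper5.CSX
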