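import Mathlib
import Cfsg.Agent.Lib.CSX.CSXDefs2
import Cfsg.Agent.Lib.Helper25.FusionRecept
import Cfsg.Agent.Lib.Helper25.FusionSat3
import Cfsg.Agent.Lib.Helper25.FusionInvariant

/-!
# S5127 piece CSX-G1B: for `R ≤ T` fully normalized in `F`: `Aut_S(R) ∩ Aut_E(R) ≤ Aut_T(R)`
RECIPE.  `hinv := hE.1.2.2`, `hT := hinv.2.1`, `hEs := hE.1.1`, `hTp : IsPGroup p T`.
(i) `R` is fully normalized in `E`: `R ≤ T`; for `Q` with `E.IsConj R Q` we have `F.IsConj R Q`
(`hinv.1`), `Q ≤ T`.  `Helper25.of_fullyNormalized p hS F hF hRfn` gives `R` fully automized and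
receptive in `F`, and `Helper25.exists_normalizer_map p hS F R Q _ _ (isConj_symm ..)` a map
`φ ∈ F.Hom (normalizerIn S Q)`, injective, values in `normalizerIn S R`; it maps
`normalizerIn T Q` into `normalizerIn T R` (into `T` by `hT.2` after restricting to
`normalizerIn T Q ≤ T`), so `Nat.card (normalizerIn T Q) ≤ Nat.card (normalizerIn T R)`.
(ii) `Helper25.of_fullyNormalized p hTp E hEs _` gives a Sylow `P : Sylow p ↥(E.autGroup R)` with
`(P : Subgroup _) = (autInducedBy T R).subgroupOf (E.autGroup R)`.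
(iii) `B := (autInducedBy S R ⊓ E.autGroup R).subgroupOf (E.autGroup R)` is a `p`-group
(`Helper25.isPGroup_autInducedBy hS R`, `IsPGroup.to_le`, `comap_of_injective`) containing `P`
(`autInducedBy T R ≤ autInducedBy S R`: `Helper25.mem_autInducedBy_iff`, `T ≤ S`); by
`P.is_maximal'` (Sylow maximality) `B = P`, which unfolds to the claim.
Aux names: prefix `csxg1b_`.
-/

set_option autoImplicit false
set_option linter.style.haveILetI false

namespace Cfsg.Agent.Helper5.CSX

open Cfsg Cfsg.FusionSystem Cfsg.Agent.Helper25 Cfsg.Agent.Helper3.CSE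

variable {Ω : Type*} [Group Ω] {S : Subgroup Ω}

theorem autInducedBy_inf_le [Finite S] (p : ℕ) [Fact p.Prime] (hS : IsPGroup p S)
    (F : FusionSystem S) (hF : F.IsSaturated p) {T : Subgroup Ω} (E : FusionSystem T)
    (hE : E.IsNormalIn F p) {R : Subgroup Ω} (hRT : R ≤ T) (hRfn : F.IsFullyNormalized R) :
    autInducedBy S R ⊓ E.autGroup R ≤ autInducedBy T R := by
  have hinv := hE.1.2.2
  have hT := hinv.2.1
  have hEs := hE.1.1
  have hTS : T ≤ S := hT.1
  have hTp : IsPGroup p T := hS.to_le hTS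
  haveI : Finite T := finite_of_le_finite hTS
  have hRS : R ≤ S := hRT.trans hTS
  -- (i) `R` is fully normalized in `E`
  obtain ⟨-, hfa, hrec⟩ := of_fullyNormalized p hS F hF hRfn
  have hRfnE : E.IsFullyNormalized R := by
    refine ⟨hRT, fun Q hQ => ?_⟩
    obtain ⟨φ0, hφ0, hr0⟩ := hQ
    have hQF : F.IsConj R Q := ⟨φ0, hinv.1 _ hφ0, hr0⟩
    obtain ⟨φ, hφ, hφN, -, -⟩ :=
      exists_normalizer_map p hS F R Q hfa hrec (isConj_symm F hQF)
    have hNle : normalizerIn T Q ≤ normalizerIn S Q := fun g hg => ⟨hTS hg.1, hg.2⟩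
    have hNT : normalizerIn T Q ≤ T := normalizerIn_le
    have hres := restrict_mem F hNle hφ
    have hvalT : ∀ g : normalizerIn T Q, φ (Subgroup.inclusion hNle g) ∈ T :=
      fun g => hT.2 _ hNT _ hres g
    haveI : Finite (normalizerIn T R) := finite_of_le_finite (normalizerIn_le.trans hTS)
    refine Nat.card_le_card_of_injective (fun g : normalizerIn T Q =>
      (⟨φ (Subgroup.inclusion hNle g), ⟨hvalT g, (hφN _).2⟩⟩ : normalizerIn T R)) ?_
    intro g g' h
    have h1 : φ (Subgroup.inclusion hNle g) = φ (Subgroup.inclusion hNle g') :=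
      congrArg (fun z : normalizerIn T R => (z : Ω)) h
    have h2 := F.injective_of_mem hφ h1
    exact Subgroup.inclusion_injective hNle h2
  -- (ii) `Aut_T(R)` is a Sylow subgroup of `Aut_E(R)`
  obtain ⟨-, hfaE, -⟩ := of_fullyNormalized p hTp E hEs hRfnE
  obtain ⟨P, hP⟩ := hfaE.2
  -- (iii) Sylow maximality
  have hBp : IsPGroup p ((autInducedBy S R ⊓ E.autGroup R).subgroupOf (E.autGroup R)) := by
    have h1 : IsPGroup p (autInducedBy S R ⊓ E.autGroup R : Subgroup (MulAut R)) :=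
      (isPGroup_autInducedBy hS R).to_le inf_le_left
    exact h1.comap_of_injective (E.autGroup R).subtype (E.autGroup R).subtype_injective
  have hPB : (P : Subgroup (E.autGroup R)) ≤
      (autInducedBy S R ⊓ E.autGroup R).subgroupOf (E.autGroup R) := by
    rw [hP]
    intro γ hγ
    rw [Subgroup.mem_subgroupOf] at hγ ⊢
    refine ⟨?_, γ.2⟩
    obtain ⟨g, hg, hgγ⟩ := (mem_autInducedBy_iff _).mp hγ
    exact (mem_autInducedBy_iff _).mpr ⟨g, hTS hg, hgγ⟩
  have hBP := P.is_maximal' hBp hPB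
  intro γ hγ
  have hγE : γ ∈ E.autGroup R := hγ.2
  have h1 : (⟨γ, hγE⟩ : E.autGroup R) ∈
      (autInducedBy S R ⊓ E.autGroup R).subgroupOf (E.autGroup R) :=
    Subgroup.mem_subgroupOf.mpr hγ
  rw [hBP, hP] at h1
  exact Subgroup.mem_subgroupOf.mp h1

end Cfsg.Agent.Helper5.CSX
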