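import Mathlib
import Cfsg.Agent.Lib.CSX.CSXAESub

/-!
# S5127 piece CSX-RESHOM: restriction of `aE F E U` to `U ⊓ T`, as a homomorphism to `Aut_E(U ⊓ T)`
For `a : ↥(aE F E U)`, `(mem_aE F E U a).mp a.2 : AEpred F E U a`, whose last component
is `∃ η ∈ E.autGroup (U ⊓ T), ∀ r, (η r : Ω) = (a ⟨r, _⟩ : Ω)`; `toFun a` is a choice of such an `η`.
Two elements of `MulAut ↥(U ⊓ T)` with the same values in `Ω` are equal.
Aux names: prefix `csxreshom_`.
-/

set_option autoImplicit false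

namespace Cfsg.Agent.Helper5.CSX

open Cfsg Cfsg.FusionSystem Cfsg.Agent.Helper25 Cfsg.Agent.Helper3.CSE

variable {Ω : Type*} [Group Ω] {S : Subgroup Ω}

theorem csxreshom_ex (F : FusionSystem S) {T : Subgroup Ω} (E : FusionSystem T) (U : Subgroup Ω)
    (a : ↥(aE F E U)) : ∃ η ∈ E.autGroup (U ⊓ T), ∀ r : ↥(U ⊓ T),
      ((η r : ↥(U ⊓ T)) : Ω) = ((((a : ↥(F.autGroup U)) : MulAut U) ⟨(r : Ω), r.2.1⟩ : U) : Ω) :=
  ((mem_aE F E U a).mp a.2).2

/-- the chosen restriction -/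
noncomputable def csxreshom_eta (F : FusionSystem S) {T : Subgroup Ω} (E : FusionSystem T)
    (U : Subgroup Ω) (a : ↥(aE F E U)) : MulAut ↥(U ⊓ T) :=
  Classical.choose (csxreshom_ex F E U a)

theorem csxreshom_eta_mem (F : FusionSystem S) {T : Subgroup Ω} (E : FusionSystem T)
    (U : Subgroup Ω) (a : ↥(aE F E U)) : csxreshom_eta F E U a ∈ E.autGroup (U ⊓ T) :=
  (Classical.choose_spec (csxreshom_ex F E U a)).1

theorem csxreshom_eta_apply (F : FusionSystem S) {T : Subgroup Ω} (E : FusionSystem T)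
    (U : Subgroup Ω) (a : ↥(aE F E U)) (r : ↥(U ⊓ T)) :
    ((csxreshom_eta F E U a r : ↥(U ⊓ T)) : Ω)
      = ((((a : ↥(F.autGroup U)) : MulAut U) ⟨(r : Ω), r.2.1⟩ : U) : Ω) :=
  (Classical.choose_spec (csxreshom_ex F E U a)).2 r

/-- Restriction of the elements of `aE F E U` to `U ⊓ T`. -/
noncomputable def resHom (F : FusionSystem S) {T : Subgroup Ω} (E : FusionSystem T)
    (U : Subgroup Ω) : ↥(aE F E U) →* ↥(E.autGroup (U ⊓ T)) where
  toFun a := ⟨csxreshom_eta F E U a, csxreshom_eta_mem F E U a⟩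
  map_one' := by
    apply Subtype.ext
    apply MulEquiv.ext
    intro r
    apply Subtype.ext
    show ((csxreshom_eta F E U 1 r : ↥(U ⊓ T)) : Ω) = (r : Ω)
    rw [csxreshom_eta_apply]
    rfl
  map_mul' a b := by
    apply Subtype.ext
    apply MulEquiv.ext
    intro r
    apply Subtype.ext
    show ((csxreshom_eta F E U (a * b) r : ↥(U ⊓ T)) : Ω)
      = ((csxreshom_eta F E U a (csxreshom_eta F E U b r) : ↥(U ⊓ T)) : Ω)
    rw [csxreshom_eta_apply, csxreshom_eta_apply]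
    have e : (⟨((csxreshom_eta F E U b r : ↥(U ⊓ T)) : Ω), (csxreshom_eta F E U b r).2.1⟩ : U)
        = ((b : ↥(F.autGroup U)) : MulAut U) ⟨(r : Ω), r.2.1⟩ :=
      Subtype.ext (csxreshom_eta_apply F E U b r)
    rw [e]
    rfl

theorem resHom_apply (F : FusionSystem S) {T : Subgroup Ω} (E : FusionSystem T) (U : Subgroup Ω)
    (a : ↥(aE F E U)) (r : ↥(U ⊓ T)) :
    ((((resHom F E U a : ↥(E.autGroup (U ⊓ T))) : MulAut ↥(U ⊓ T)) r : ↥(U ⊓ T)) : Ω) =
      ((((a : ↥(F.autGroup U)) : MulAut U) ⟨(r : Ω), r.2.1⟩ : U) : Ω) :=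
  csxreshom_eta_apply F E U a r

end Cfsg.Agent.Helper5.CSX
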