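import Mathlib
import Cfsg.Agent.Lib.CSX.CSXResHom
import Cfsg.Agent.Lib.CSX.CSXG1B
import Cfsg.Agent.Lib.CSE.CSENC

/-!
# S5127 piece CSX-BGRPMEM: the restriction to `U ⊓ T` of an element of the normal closure (in `aE`)
of a Sylow subgroup consisting of `S`-conjugations lies in `bGrp E (U ⊓ T)`
RECIPE.  `R := U ⊓ T`, `ρ := resHom F E U`.  `N := Subgroup.normalClosure (((autInducedBy T R).subgroupOf
(E.autGroup R) : Subgroup _) : Set _)` is a normal subgroup of `↥(E.autGroup R)`, so `N.comap ρ` is a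
normal subgroup of `↥(aE F E U)`; `Subgroup.normalClosure_le_normal` reduces the claim
`κ ∈ N.comap ρ` to `(Q : Set _) ⊆ N.comap ρ`.  For `a ∈ Q`: by `hQ` and
`Helper25.mem_autInducedBy_iff` there is `g ∈ S` with `(a u : Ω) = g * u * g⁻¹` for `u : U`; then
`(ρ a : MulAut R)` is conjugation by `g` (`resHom_apply`), so it lies in `autInducedBy S R`
(`mem_autInducedBy_iff`) and in `E.autGroup R` (`(ρ a).2`), hence in `autInducedBy T R` by
`autInducedBy_inf_le p hS F hF E hE inf_le_right hU.rfn`; `Subgroup.subset_normalClosure`.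
Finally `Helper3.CSE.mem_bGrp_of_mem_normalClosure E R (ρ κ) _`.
Aux names: prefix `csxbgrpmem_`.
-/

set_option autoImplicit false

namespace Cfsg.Agent.Helper5.CSX

open Cfsg Cfsg.FusionSystem Cfsg.Agent.Helper25 Cfsg.Agent.Helper3.CSE

variable {Ω : Type*} [Group Ω] {S : Subgroup Ω}

theorem res_mem_bGrp [Finite S] (p : ℕ) [Fact p.Prime] (hS : IsPGroup p S)
    (F : FusionSystem S) (hF : F.IsSaturated p) {T : Subgroup Ω} (E : FusionSystem T)
    (hE : E.IsNormalIn F p) {U : Subgroup Ω} (hU : GoodU p F T U)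
    (Q : Sylow p ↥(aE F E U))
    (hQ : ∀ a ∈ (Q : Subgroup ↥(aE F E U)),
      (((a : ↥(aE F E U)) : ↥(F.autGroup U)) : MulAut U) ∈ autInducedBy S U)
    (κ : ↥(aE F E U))
    (hκ : κ ∈ Subgroup.normalClosure ((Q : Subgroup ↥(aE F E U)) : Set ↥(aE F E U))) :
    ((resHom F E U κ : ↥(E.autGroup (U ⊓ T))) : MulAut ↥(U ⊓ T)) ∈ bGrp E (U ⊓ T) := by
  apply mem_bGrp_of_mem_normalClosure E (U ⊓ T) (resHom F E U κ)
  have hN : (Subgroup.normalClosure
      (((autInducedBy T (U ⊓ T)).subgroupOf (E.autGroup (U ⊓ T)) :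
        Subgroup ↥(E.autGroup (U ⊓ T))) : Set ↥(E.autGroup (U ⊓ T)))).Normal :=
    Subgroup.normalClosure_normal
  have hcomapN : ((Subgroup.normalClosure
      (((autInducedBy T (U ⊓ T)).subgroupOf (E.autGroup (U ⊓ T)) :
        Subgroup ↥(E.autGroup (U ⊓ T))) : Set ↥(E.autGroup (U ⊓ T)))).comap
        (resHom F E U)).Normal := hN.comap _
  have hle : Subgroup.normalClosure ((Q : Subgroup ↥(aE F E U)) : Set ↥(aE F E U)) ≤
      (Subgroup.normalClosure
      (((autInducedBy T (U ⊓ T)).subgroupOf (E.autGroup (U ⊓ T)) :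
        Subgroup ↥(E.autGroup (U ⊓ T))) : Set ↥(E.autGroup (U ⊓ T)))).comap
        (resHom F E U) := by
    apply Subgroup.normalClosure_le_normal
    intro a ha
    rw [SetLike.mem_coe, Subgroup.mem_comap]
    apply Subgroup.subset_normalClosure
    rw [SetLike.mem_coe, Subgroup.mem_subgroupOf]
    apply autInducedBy_inf_le p hS F hF E hE inf_le_right hU.rfn
    obtain ⟨g, hg, hga⟩ := (mem_autInducedBy_iff _).mp (hQ a ha)
    have h1 : ((resHom F E U a : ↥(E.autGroup (U ⊓ T))) : MulAut ↥(U ⊓ T)) ∈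
        autInducedBy S (U ⊓ T) := by
      rw [mem_autInducedBy_iff]
      refine ⟨g, hg, fun r => ?_⟩
      rw [resHom_apply, hga]
    exact ⟨h1, (resHom F E U a).2⟩
  exact hle hκ

end Cfsg.Agent.Helper5.CSX
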