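import Mathlib
import Cfsg.Agent.Lib.CSX.CSXDefs

/-!
# S5127 (helper5): `ExtFix` and `InX` are monotone in `X`
-/

set_option autoImplicit false

namespace Cfsg.Agent.Helper5.CSX

open Cfsg Cfsg.FusionSystem Cfsg.Agent.Helper25 Cfsg.Agent.Helper3.CSE

variable {Ω : Type*} [Group Ω] {S : Subgroup Ω}

theorem extFix_mono (F : FusionSystem S) {X X' P : Subgroup Ω} {φ : P →* Ω} (hXX' : X' ≤ X)
    (h : ExtFix F X P φ) : ExtFix F X' P φ := by
  obtain ⟨ψ, hψ, hψP, hψX⟩ := h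
  have hle : P ⊔ X' ≤ P ⊔ X := sup_le_sup_left hXX' P
  refine ⟨ψ.comp (Subgroup.inclusion hle), restrict_mem F hle hψ, ?_, ?_⟩
  · intro x
    exact hψP x
  · intro x
    exact hψX ⟨(x : Ω), hXX' x.2⟩

theorem inX_mono (F : FusionSystem S) {T : Subgroup Ω} (E : FusionSystem T) {X X' : Subgroup Ω}
    (hXX' : X' ≤ X) (h : InX F E X) : InX F E X' :=
  ⟨hXX'.trans h.1, fun P φ hφ => extFix_mono F hXX' (h.2 P φ hφ)⟩

end Cfsg.Agent.Helper5.CSX
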