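import Mathlib
import Cfsg.Agent.Lib.CSX.CSXDefs2
import Cfsg.Agent.Lib.CSE.CSEFoc

/-!
# S5127 piece CSX-NTA: the "twist" `x⁻¹ κ(x)` lies in `foc(C_F(R)) ∩ Z(R)`
SETTING.  `R ≤ M ≤ S`, `κ ∈ Aut_F(M)` maps `R` into `R` (hence onto `R`: injective, `R` finite since
`R ≤ S`, `Finite S`), `x ∈ M` centralizes `R`, `t := x⁻¹ κ(x) ∈ R`, and `ψ` is an `F`-map on
`N := R ⊔ ⟨x⟩` which agrees with `κ` on `R` and fixes `x`.
(1) `t ∈ zOf R = R ⊓ centralizer R`: `x` centralizes `R`, and `κ x` centralizes `κ(R) = R`.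
(2) `t ∈ focC F R`: it is the generator `y = (z : Ω)⁻¹ * φ z` of `focC` with `P := Subgroup.zpowers (x : Ω)`,
`z := ⟨x, mem_zpowers⟩` and `φ := κ` restricted to `P`.  The extension `ω ∈ F.Hom (P ⊔ R)` fixing `R` is `κ ∘ χ`
with `χ` the inverse of `ψ` (restricted to `N ≤ ψ.range`).  Aux names: prefix `csxnta_`.
-/

set_option autoImplicit false

namespace Cfsg.Agent.Helper5.CSX

open Cfsg Cfsg.FusionSystem Cfsg.Agent.Helper25 Cfsg.Agent.Helper3.CSE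

variable {Ω : Type*} [Group Ω] {S : Subgroup Ω}

theorem nt_mem_focC [Finite S] (F : FusionSystem S) {R M : Subgroup Ω} (hRM : R ≤ M) (hMS : M ≤ S)
    (κ : MulAut M) (hκ : κ ∈ F.autGroup M)
    (hκR : ∀ y : M, (y : Ω) ∈ R → ((κ y : M) : Ω) ∈ R)
    (x : M) (hxC : (x : Ω) ∈ centralizerIn S R)
    (hxt : (x : Ω)⁻¹ * ((κ x : M) : Ω) ∈ R)
    (ψ : ↥(R ⊔ Subgroup.zpowers (x : Ω)) →* Ω) (hψ : ψ ∈ F.Hom (R ⊔ Subgroup.zpowers (x : Ω)))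
    (hψR : ∀ r : R, ψ (Subgroup.inclusion le_sup_left r) = ((κ ⟨(r : Ω), hRM r.2⟩ : M) : Ω))
    (hψx : ψ ⟨(x : Ω), (le_sup_right : Subgroup.zpowers (x : Ω) ≤ R ⊔ Subgroup.zpowers (x : Ω))
      (Subgroup.mem_zpowers _)⟩ = (x : Ω)) :
    (x : Ω)⁻¹ * ((κ x : M) : Ω) ∈ focC F R ∧ (x : Ω)⁻¹ * ((κ x : M) : Ω) ∈ zOf R := by
  classical
  have hRS : R ≤ S := hRM.trans hMS
  haveI : Finite R :=
    Finite.of_injective (Subgroup.inclusion hRS) (Subgroup.inclusion_injective hRS)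
  have hPM : Subgroup.zpowers (x : Ω) ≤ M := Subgroup.zpowers_le.mpr x.2
  have hκM : M.subtype.comp κ.toMonoidHom ∈ F.Hom M := (mem_autGroup_iff F hMS κ).mp hκ
  -- surjectivity of κ on R
  have hsurj : ∀ r : R, ∃ r' : R, ((κ ⟨(r' : Ω), hRM r'.2⟩ : M) : Ω) = (r : Ω) := by
    let f : R → R := fun r => ⟨((κ ⟨(r : Ω), hRM r.2⟩ : M) : Ω), hκR _ r.2⟩
    have hf : Function.Injective f := by
      intro a b hab
      have h1 : ((κ ⟨(a : Ω), hRM a.2⟩ : M) : Ω) = ((κ ⟨(b : Ω), hRM b.2⟩ : M) : Ω) := by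
        have h0 := congrArg (fun z : R => (z : Ω)) hab
        exact h0
      have h2 : (⟨(a : Ω), hRM a.2⟩ : M) = ⟨(b : Ω), hRM b.2⟩ := κ.injective (Subtype.ext h1)
      have h3 : (a : Ω) = (b : Ω) := by
        have h0 := congrArg (fun z : M => (z : Ω)) h2
        exact h0
      exact Subtype.ext h3
    have hfs := Finite.injective_iff_surjective.mp hf
    intro r
    obtain ⟨r', hr'⟩ := hfs r
    exact ⟨r', congrArg Subtype.val hr'⟩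
  -- κ x centralizes R
  have hxcen : (x : Ω) ∈ Subgroup.centralizer (R : Set Ω) := hxC.2
  have hκxcen : ((κ x : M) : Ω) ∈ Subgroup.centralizer (R : Set Ω) := by
    rw [Subgroup.mem_centralizer_iff]
    intro r hr
    obtain ⟨r', hr'⟩ := hsurj ⟨r, hr⟩
    have hr'' : ((κ ⟨(r' : Ω), hRM r'.2⟩ : M) : Ω) = r := hr'
    have hc : (r' : Ω) * (x : Ω) = (x : Ω) * (r' : Ω) :=
      (Subgroup.mem_centralizer_iff.mp hxcen) r' r'.2
    have hcM : (⟨(r' : Ω), hRM r'.2⟩ : M) * x = x * ⟨(r' : Ω), hRM r'.2⟩ := Subtype.ext hc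
    have h3 : ((κ ((⟨(r' : Ω), hRM r'.2⟩ : M) * x) : M) : Ω)
        = ((κ (x * ⟨(r' : Ω), hRM r'.2⟩) : M) : Ω) := by rw [hcM]
    rw [map_mul, map_mul, Subgroup.coe_mul, Subgroup.coe_mul, hr''] at h3
    exact h3
  have ht_cen : (x : Ω)⁻¹ * ((κ x : M) : Ω) ∈ Subgroup.centralizer (R : Set Ω) :=
    Subgroup.mul_mem _ (Subgroup.inv_mem _ hxcen) hκxcen
  refine ⟨?_, ⟨hxt, ht_cen⟩⟩
  unfold focC
  apply Subgroup.subset_closure
  let φ : ↥(Subgroup.zpowers (x : Ω)) →* Ω :=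
    (M.subtype.comp κ.toMonoidHom).comp (Subgroup.inclusion hPM)
  refine ⟨Subgroup.zpowers (x : Ω), φ, ⟨(x : Ω), Subgroup.mem_zpowers _⟩, ?_, rfl⟩
  have hφF : φ ∈ F.Hom (Subgroup.zpowers (x : Ω)) := restrict_mem F hPM hκM
  have hκxS : ((κ x : M) : Ω) ∈ centralizerIn S R := ⟨hMS (κ x).2, hκxcen⟩
  have hφval : ∀ w : ↥(Subgroup.zpowers (x : Ω)), φ w ∈ centralizerIn S R := by
    intro w
    obtain ⟨k, hk⟩ := Subgroup.mem_zpowers_iff.mp w.2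
    have hw : Subgroup.inclusion hPM w = x ^ k :=
      Subtype.ext (by rw [Subgroup.coe_zpow]; exact hk.symm)
    show ((κ (Subgroup.inclusion hPM w) : M) : Ω) ∈ _
    rw [hw, map_zpow, Subgroup.coe_zpow]
    exact Subgroup.zpow_mem _ hκxS k
  refine ⟨hφF, Subgroup.zpowers_le.mpr hxC, hφval, ?_⟩
  -- the extension
  have hxN : (x : Ω) ∈ R ⊔ Subgroup.zpowers (x : Ω) :=
    (le_sup_right : Subgroup.zpowers (x : Ω) ≤ _) (Subgroup.mem_zpowers _)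
  have hNrange : R ⊔ Subgroup.zpowers (x : Ω) ≤ ψ.range := by
    apply sup_le
    · intro r hr
      obtain ⟨r', hr'⟩ := hsurj ⟨r, hr⟩
      exact ⟨Subgroup.inclusion le_sup_left r', by rw [hψR r']; exact hr'⟩
    · rw [Subgroup.zpowers_le]
      exact ⟨⟨(x : Ω), hxN⟩, hψx⟩
  obtain ⟨χ, hχ, hχinv, -⟩ := exists_inv F hψ rfl
  let χ' : ↥(R ⊔ Subgroup.zpowers (x : Ω)) →* Ω := χ.comp (Subgroup.inclusion hNrange)
  have hχ' : χ' ∈ F.Hom (R ⊔ Subgroup.zpowers (x : Ω)) := restrict_mem F hNrange hχ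
  have hNM : R ⊔ Subgroup.zpowers (x : Ω) ≤ M := sup_le hRM hPM
  have hkey : ∀ (n m : ↥(R ⊔ Subgroup.zpowers (x : Ω))), ψ m = (n : Ω) → χ' n = (m : Ω) := by
    intro n m hmn
    have e : Subgroup.inclusion hNrange n = ⟨ψ m, ⟨m, rfl⟩⟩ := Subtype.ext hmn.symm
    show χ (Subgroup.inclusion hNrange n) = m
    rw [e]
    exact hχinv m _
  have hχ'M : ∀ n : ↥(R ⊔ Subgroup.zpowers (x : Ω)), χ' n ∈ M := by
    intro n
    obtain ⟨m, hm⟩ := hNrange n.2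
    rw [hkey n m hm]
    exact hNM m.2
  let ω₀ : ↥(R ⊔ Subgroup.zpowers (x : Ω)) →* Ω :=
    (M.subtype.comp κ.toMonoidHom).comp (χ'.codRestrict M hχ'M)
  have hω₀ : ω₀ ∈ F.Hom (R ⊔ Subgroup.zpowers (x : Ω)) := F.comp_mem hχ' hκM hχ'M
  have hω₀_apply : ∀ n : ↥(R ⊔ Subgroup.zpowers (x : Ω)),
      ω₀ n = ((κ ⟨χ' n, hχ'M n⟩ : M) : Ω) := fun n => rfl
  have hcomm : Subgroup.zpowers (x : Ω) ⊔ R = R ⊔ Subgroup.zpowers (x : Ω) := sup_comm _ _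
  refine ⟨ω₀.comp (Subgroup.inclusion hcomm.le), hom_transport F hcomm hω₀, ?_, ?_⟩
  · intro w
    obtain ⟨k, hk⟩ := Subgroup.mem_zpowers_iff.mp w.2
    have hwN : (w : Ω) ∈ R ⊔ Subgroup.zpowers (x : Ω) :=
      (le_sup_right : Subgroup.zpowers (x : Ω) ≤ _) w.2
    have hψw : ψ ⟨(w : Ω), hwN⟩ = (w : Ω) := by
      have e : (⟨(w : Ω), hwN⟩ : ↥(R ⊔ Subgroup.zpowers (x : Ω))) = ⟨(x : Ω), hxN⟩ ^ k :=
        Subtype.ext (by rw [Subgroup.coe_zpow]; exact hk.symm)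
      rw [e, map_zpow, hψx]
      exact hk
    have hχw : χ' ⟨(w : Ω), hwN⟩ = (w : Ω) := hkey ⟨(w : Ω), hwN⟩ ⟨(w : Ω), hwN⟩ hψw
    have e1 : (ω₀.comp (Subgroup.inclusion hcomm.le)) (Subgroup.inclusion le_sup_left w)
        = ω₀ ⟨(w : Ω), hwN⟩ := rfl
    rw [e1, hω₀_apply]
    show ((κ ⟨χ' ⟨(w : Ω), hwN⟩, hχ'M _⟩ : M) : Ω) = ((κ (Subgroup.inclusion hPM w) : M) : Ω)
    have e2 : (⟨χ' ⟨(w : Ω), hwN⟩, hχ'M _⟩ : M) = Subgroup.inclusion hPM w := Subtype.ext hχw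
    rw [e2]
  · intro r
    obtain ⟨r', hr'⟩ := hsurj r
    have hrN : (r : Ω) ∈ R ⊔ Subgroup.zpowers (x : Ω) := (le_sup_left : R ≤ _) r.2
    have hχr : χ' ⟨(r : Ω), hrN⟩ = (r' : Ω) :=
      hkey ⟨(r : Ω), hrN⟩ (Subgroup.inclusion le_sup_left r') (by rw [hψR r']; exact hr')
    have e1 : (ω₀.comp (Subgroup.inclusion hcomm.le)) (Subgroup.inclusion le_sup_right r)
        = ω₀ ⟨(r : Ω), hrN⟩ := rfl
    rw [e1, hω₀_apply]
    have e2 : (⟨χ' ⟨(r : Ω), hrN⟩, hχ'M _⟩ : M) = ⟨(r' : Ω), hRM r'.2⟩ := Subtype.ext hχr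
    rw [e2]
    exact hr'

end Cfsg.Agent.Helper5.CSX
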