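import Mathlib

/-!
# S5127 piece CSX-NTB (pure group theory, Mathlib only): the norm trick
By induction `(κ ^ j) x = x * t ^ j`.  With `j = m`: `x = x * t ^ m`, so `t ^ m = 1`.  With `t ^ p ^ k = 1` and
`Nat.Coprime m (p ^ k)`: `pow_gcd_eq_one` gives `t ^ 1 = 1`.
Aux names: prefix `csxntb_`.
-/

set_option autoImplicit false

namespace Cfsg.Agent.Helper5.CSX

theorem csxntb_pow_apply {M : Type*} [Group M] (κ : MulAut M) (x t : M) (hκx : κ x = x * t)
    (hκt : κ t = t) : ∀ j : ℕ, (κ ^ j) x = x * t ^ j := by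
  intro j
  induction j with
  | zero => simp
  | succ j ih =>
    rw [pow_succ', MulAut.mul_apply, ih, map_mul, map_pow, hκx, hκt, mul_assoc, ← pow_succ']

theorem nt_pow {M : Type*} [Group M] (p : ℕ) (κ : MulAut M) (m : ℕ) (hm : m.Coprime p)
    (hκm : κ ^ m = 1) (x t : M) (hκx : κ x = x * t) (hκt : κ t = t)
    (ht : ∃ k : ℕ, t ^ p ^ k = 1) : t = 1 := by
  have h := csxntb_pow_apply κ x t hκx hκt m
  rw [hκm] at h
  have h1 : x * t ^ m = x * 1 := by
    rw [mul_one]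
    exact h.symm
  have htm : t ^ m = 1 := mul_left_cancel h1
  obtain ⟨k, hk⟩ := ht
  have hcop : Nat.Coprime m (p ^ k) := Nat.Coprime.pow_right k hm
  have h2 : t ^ Nat.gcd m (p ^ k) = 1 := pow_gcd_eq_one.mpr ⟨htm, hk⟩
  rw [hcop, pow_one] at h2
  exact h2

end Cfsg.Agent.Helper5.CSX
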