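import Mathlib
import Cfsg.Agent.Lib.CSX.CSXNtA
import Cfsg.Agent.Lib.CSX.CSXNtB

/-!
# S5127 (helper5): the norm trick: a `p'`-automorphism `κ` of `M ≥ R`, twisting `x ∈ C_M(R)` by an
element of `R`, fixes `x` as soon as `κ|_R` has an extension fixing `x` and `κ` fixes
`foc(C_F(R)) ∩ Z(R)`.
-/

set_option autoImplicit false

namespace Cfsg.Agent.Helper5.CSX

open Cfsg Cfsg.FusionSystem Cfsg.Agent.Helper25 Cfsg.Agent.Helper3.CSE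

variable {Ω : Type*} [Group Ω] {S : Subgroup Ω}

theorem norm_trick [Finite S] (p : ℕ) [Fact p.Prime] (hS : IsPGroup p S) (F : FusionSystem S)
    {R M : Subgroup Ω} (hRM : R ≤ M) (hMS : M ≤ S)
    (κ : MulAut M) (hκ : κ ∈ F.autGroup M)
    (hκR : ∀ y : M, (y : Ω) ∈ R → ((κ y : M) : Ω) ∈ R)
    (m : ℕ) (hm : m.Coprime p) (hκm : κ ^ m = 1)
    (x : M) (hxC : (x : Ω) ∈ centralizerIn S R)
    (hxt : (x : Ω)⁻¹ * ((κ x : M) : Ω) ∈ R)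
    (ψ : ↥(R ⊔ Subgroup.zpowers (x : Ω)) →* Ω) (hψ : ψ ∈ F.Hom (R ⊔ Subgroup.zpowers (x : Ω)))
    (hψR : ∀ r : R, ψ (Subgroup.inclusion le_sup_left r) = ((κ ⟨(r : Ω), hRM r.2⟩ : M) : Ω))
    (hψx : ψ ⟨(x : Ω), (le_sup_right : Subgroup.zpowers (x : Ω) ≤ R ⊔ Subgroup.zpowers (x : Ω))
      (Subgroup.mem_zpowers _)⟩ = (x : Ω))
    (hfix : ∀ t : M, (t : Ω) ∈ focC F R → (t : Ω) ∈ zOf R → κ t = t) :
    κ x = x := by
  obtain ⟨h1, h2⟩ := nt_mem_focC F hRM hMS κ hκ hκR x hxC hxt ψ hψ hψR hψx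
  set t : M := x⁻¹ * κ x with ht
  have htc : ((t : M) : Ω) = (x : Ω)⁻¹ * ((κ x : M) : Ω) := rfl
  have hκt : κ t = t := hfix t (by rw [htc]; exact h1) (by rw [htc]; exact h2)
  have hκx : κ x = x * t := by rw [ht]; group
  have hpt : ∃ k : ℕ, t ^ p ^ k = 1 := by
    obtain ⟨k, hk⟩ := hS ⟨(t : Ω), hMS t.2⟩
    refine ⟨k, ?_⟩
    apply Subtype.ext
    have := congrArg Subtype.val hk
    simpa using this
  have h1t : t = 1 := nt_pow p κ m hm hκm x t hκx hκt hpt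
  rw [hκx, h1t, mul_one]

end Cfsg.Agent.Helper5.CSX
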