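import Mathlib
import Cfsg.Agent.Lib.CSX.CSXBGrpMem
import Cfsg.Agent.Lib.CSX.CSXACent
import Cfsg.Agent.Lib.CSX.CSXNt
import Cfsg.Agent.Lib.CSX.CSXMono
import Cfsg.Agent.Lib.CSE.CSEBGrp
import Cfsg.Agent.Lib.CSE.CSEPow
import Cfsg.Agent.Lib.CSE.CSEKill
import Cfsg.Agent.Lib.CSE.CSEOfLiftZ

/-!
# S5127 piece CSX-KFIX: a `p'`-element `κ` of the normal closure (in `aE`) of the Sylow subgroup of
`S`-conjugations fixes `cSE F E ∩ U` elementwise (`U` good)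
Glue of `res_mem_bGrp`, `bGrp_le_liftZ`, `liftZ_coprime`, `kill` and `norm_trick`.
Aux names: prefix `csxkfix_`.
-/

set_option autoImplicit false

namespace Cfsg.Agent.Helper5.CSX

open Cfsg Cfsg.FusionSystem Cfsg.Agent.Helper25 Cfsg.Agent.Helper3.CSE

variable {Ω : Type*} [Group Ω] {S : Subgroup Ω}

theorem kappa_fix [Finite S] (p : ℕ) [Fact p.Prime] (hS : IsPGroup p S)
    (F : FusionSystem S) (hF : F.IsSaturated p) {T : Subgroup Ω} (E : FusionSystem T)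
    (hE : E.IsNormalIn F p) (hC : InX F E (cSE F E)) {U : Subgroup Ω} (hU : GoodU p F T U)
    (Q : Sylow p ↥(aE F E U))
    (hQ : ∀ a ∈ (Q : Subgroup ↥(aE F E U)),
      (((a : ↥(aE F E U)) : ↥(F.autGroup U)) : MulAut U) ∈ autInducedBy S U)
    (κ : ↥(aE F E U))
    (hκ : κ ∈ Subgroup.normalClosure ((Q : Subgroup ↥(aE F E U)) : Set ↥(aE F E U)))
    (hord : (orderOf κ).Coprime p) (x : U) (hx : (x : Ω) ∈ cSE F E) :
    (((κ : ↥(aE F E U)) : ↥(F.autGroup U)) : MulAut U) x = x := by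
  classical
  have hRT : U ⊓ T ≤ T := inf_le_right
  have hT : F.StronglyClosed T := hE.1.2.2.2.1
  have hTS : T ≤ S := hT.1
  have hUS : U ≤ S := hU.fn.1
  have hRS : U ⊓ T ≤ S := hRT.trans hTS
  have hRU : U ⊓ T ≤ U := inf_le_left
  -- the restriction η
  obtain ⟨η, hηdef⟩ : ∃ η : MulAut ↥(U ⊓ T),
      η = ((resHom F E U κ : ↥(E.autGroup (U ⊓ T))) : MulAut ↥(U ⊓ T)) := ⟨_, rfl⟩
  have hηb : η ∈ bGrp E (U ⊓ T) := by
    rw [hηdef]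
    exact res_mem_bGrp p hS F hF E hE hU Q hQ κ hκ
  have hηE : η ∈ E.autGroup (U ⊓ T) := by
    rw [hηdef]
    exact (resHom F E U κ).2
  have hcen := centralizerIn_inf_le p hS F hT hU
  have hL : LiftZ F (U ⊓ T) η := bGrp_le_liftZ p hS F hF E hE hRT hU.rfn hcen η hηb
  have hordη : (orderOf η).Coprime p := by
    have h1 : orderOf (resHom F E U κ) ∣ orderOf κ := orderOf_map_dvd (resHom F E U) κ
    rw [hηdef, Subgroup.orderOf_coe]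
    exact Nat.Coprime.coprime_dvd_left h1 hord
  obtain ⟨β, hβ, hβη, hβZ, m', hm', hβm'⟩ := liftZ_coprime p F hRS η hL hordη
  obtain ⟨hRfc, -, -⟩ := of_fullyNormalized p hS F hF hU.rfn
  have hβR : ∀ y : ↥((U ⊓ T) ⊔ centralizerIn S (U ⊓ T)), (y : Ω) ∈ U ⊓ T →
      ((β y : ↥((U ⊓ T) ⊔ centralizerIn S (U ⊓ T))) : Ω) ∈ U ⊓ T := by
    intro y hy
    have h1 : y = Subgroup.inclusion le_sup_left (⟨(y : Ω), hy⟩ : ↥(U ⊓ T)) := Subtype.ext rfl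
    rw [h1, hβη]
    exact (η _).2
  have hkill := kill p hS F hF hRS hRfc β hβ hβR hβZ m' hm' hβm'
  -- the automorphism k of U
  obtain ⟨k, hkdef⟩ : ∃ k : MulAut U, k = (((κ : ↥(aE F E U)) : ↥(F.autGroup U)) : MulAut U) :=
    ⟨_, rfl⟩
  have hkmem : k ∈ F.autGroup U := by
    rw [hkdef]
    exact (κ : ↥(F.autGroup U)).2
  have hkη : ∀ r : ↥(U ⊓ T), ((k ⟨(r : Ω), r.2.1⟩ : U) : Ω) = ((η r : ↥(U ⊓ T)) : Ω) := by
    intro r
    rw [hkdef, hηdef]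
    exact (resHom_apply F E U κ r).symm
  have hfix : ∀ t : U, (t : Ω) ∈ focC F (U ⊓ T) → (t : Ω) ∈ zOf (U ⊓ T) → k t = t := by
    intro t htf htz
    have htR : (t : Ω) ∈ U ⊓ T := zOf_le _ htz
    apply Subtype.ext
    calc ((k t : U) : Ω)
        = ((k ⟨((⟨(t : Ω), htR⟩ : ↥(U ⊓ T)) : Ω), htR.1⟩ : U) : Ω) := rfl
      _ = ((η ⟨(t : Ω), htR⟩ : ↥(U ⊓ T)) : Ω) := hkη ⟨(t : Ω), htR⟩
      _ = ((β (Subgroup.inclusion le_sup_left (⟨(t : Ω), htR⟩ : ↥(U ⊓ T))) :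
            ↥((U ⊓ T) ⊔ centralizerIn S (U ⊓ T))) : Ω) := (hβη ⟨(t : Ω), htR⟩).symm
      _ = (t : Ω) := by
          rw [hkill (Subgroup.inclusion le_sup_left (⟨(t : Ω), htR⟩ : ↥(U ⊓ T))) htf]
          rfl
  have hkm : k ^ orderOf κ = 1 := by
    have h1 := pow_orderOf_eq_one κ
    have h2 : (((κ ^ orderOf κ : ↥(aE F E U)) : ↥(F.autGroup U)) : MulAut U) = 1 := by
      rw [h1]
      rfl
    rw [hkdef, ← h2, SubgroupClass.coe_pow, SubgroupClass.coe_pow]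
  have hkR : ∀ y : U, (y : Ω) ∈ U ⊓ T → ((k y : U) : Ω) ∈ U ⊓ T := by
    intro y hy
    have h1 : ((k y : U) : Ω) = ((η ⟨(y : Ω), hy⟩ : ↥(U ⊓ T)) : Ω) := hkη ⟨(y : Ω), hy⟩
    rw [h1]
    exact (η _).2
  have hxC : (x : Ω) ∈ centralizerIn S (U ⊓ T) := centralizerIn_anti hRT (cSE_le F E hx)
  have hxt : (x : Ω)⁻¹ * ((k x : U) : Ω) ∈ U ⊓ T := by
    refine ⟨U.mul_mem (U.inv_mem x.2) (k x).2, ?_⟩
    rw [hkdef]
    exact ((mem_aE F E U κ).mp κ.2).1 x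
  -- the extension ψ
  have hφE : (U ⊓ T).subtype.comp η.toMonoidHom ∈ E.Hom (U ⊓ T) :=
    (mem_autGroup_iff E hRT η).mp hηE
  have hext : ExtFix F (Subgroup.zpowers (x : Ω)) (U ⊓ T) ((U ⊓ T).subtype.comp η.toMonoidHom) :=
    extFix_mono F (Subgroup.zpowers_le.mpr hx) (hC.2 (U ⊓ T) _ hφE)
  obtain ⟨ψ, hψ, hψR, hψx⟩ := hext
  have hψR' : ∀ r : ↥(U ⊓ T), ψ (Subgroup.inclusion le_sup_left r)
      = ((k ⟨(r : Ω), hRU r.2⟩ : U) : Ω) := by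
    intro r
    rw [hψR r]
    exact (hkη r).symm
  have hψx' : ψ ⟨(x : Ω), (le_sup_right : Subgroup.zpowers (x : Ω) ≤ (U ⊓ T) ⊔ Subgroup.zpowers (x : Ω))
      (Subgroup.mem_zpowers _)⟩ = (x : Ω) := hψx ⟨(x : Ω), Subgroup.mem_zpowers _⟩
  have hres := norm_trick p hS F hRU hUS k hkmem hkR (orderOf κ) hord hkm x hxC hxt ψ hψ hψR' hψx'
    hfix
  rw [← hkdef]
  exact hres

end Cfsg.Agent.Helper5.CSX
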