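import Mathlib
import Cfsg.Agent.Lib.CSX.CSXDefs2
import Cfsg.Agent.Lib.Helper25.FusionInvariant

/-!
# S5127 piece CSX-TI: the family is invariant under `F`-maps defined on a subgroup containing `T`
SETTING.  `T ≤ W`, `Y ≤ W`, `ψ ∈ F.Hom W`, `InX F E Y`.  CLAIM: `InX F E ψ(Y)`, where
`ψ(Y) = (Y.subgroupOf W).map ψ`.
RECIPE.  `hT : F.StronglyClosed T := hinv.2.1`, `W ≤ S` (`F.le_of_mem hψ`).  `ψ` maps `T` into `T`
(`hT.2 T le_rfl (ψ.comp (inclusion hTW)) (restrict_mem ..)`) injectively (`F.injective_of_mem`), `T`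
finite, so ONTO `T`: `α : MulAut T` with `(α t : Ω) = ψ t`, `α ∈ F.autGroup T`
(`Helper25.mem_autGroup_iff`; or build `α` from `Helper25.homEquiv`).
(1) `ψ(Y) ≤ centralizerIn S T`: values in `S` (`F.le_of_mem`), and for `t ∈ T`, `t = ψ t'` with
`t' ∈ T`, `t' * y = y * t'` (`hY.1`), apply `ψ`.
(2) `ExtFix F ψ(Y) P φ` for `φ ∈ E.Hom P` (`P ≤ T`, values in `T`: `E.le_of_mem`):
`Helper25.strongInv_of_isInvariantIn hinv : StrongInv F E` applied with `Q := T`, the `F`-map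
`T.subtype.comp α⁻¹.toMonoidHom` and `φ` gives `φ' ∈ E.Hom P'`, `P' := α⁻¹(P)`, with
`φ' (α⁻¹ x) = α⁻¹ (φ x)`.  `hY.2 P' φ' _` gives `χ ∈ F.Hom (P' ⊔ Y)` extending `φ'` and fixing `Y`;
`χ` has values in `T ⊔ Y ≤ W` (`Helper3.CSE.csetr_sup_mem` in `Lib/CSE/CSETransport.lean`, or
`csenorm_sup_hom_mem`).  `ψ` restricted to `P' ⊔ Y` has range `P ⊔ ψ(Y)`; `Helper25.exists_inv` gives
its inverse `ι ∈ F.Hom (P ⊔ ψ(Y))`; the wanted map is `ψ ∘ χ ∘ ι` (`Helper25.comp_mem'` twice).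
On `x ∈ P`: `ι x = α⁻¹ x`, `χ (α⁻¹ x) = φ' (α⁻¹ x) = α⁻¹ (φ x)`, `ψ` of it is `φ x`.
On `ψ y`, `y ∈ Y`: `ι (ψ y) = y`, `χ y = y`, so the value is `ψ y`.
Aux names: prefix `csxti_`.
-/

set_option autoImplicit false

namespace Cfsg.Agent.Helper5.CSX

open Cfsg Cfsg.FusionSystem Cfsg.Agent.Helper25 Cfsg.Agent.Helper3.CSE

variable {Ω : Type*} [Group Ω] {S : Subgroup Ω}

theorem csxti_sup_mem {G : Type*} [Group G] {P Q : Subgroup Ω} (f : ↥(P ⊔ Q) →* G)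
    (D : Subgroup G)
    (hP : ∀ (a : Ω) (ha : a ∈ P), f ⟨a, (le_sup_left : P ≤ P ⊔ Q) ha⟩ ∈ D)
    (hQ : ∀ (b : Ω) (hb : b ∈ Q), f ⟨b, (le_sup_right : Q ≤ P ⊔ Q) hb⟩ ∈ D) (x : ↥(P ⊔ Q)) :
    f x ∈ D := by
  have h : (⊤ : Subgroup ↥(P ⊔ Q)) ≤ D.comap f := by
    rw [← Subgroup.subgroupOf_self (P ⊔ Q), Subgroup.subgroupOf_sup le_sup_left le_sup_right]
    refine sup_le ?_ ?_
    · intro y hy
      exact hP y.1 (Subgroup.mem_subgroupOf.mp hy)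
    · intro y hy
      exact hQ y.1 (Subgroup.mem_subgroupOf.mp hy)
  exact h (Subgroup.mem_top x)

theorem inX_map [Finite S] (F : FusionSystem S) {T : Subgroup Ω} (E : FusionSystem T)
    (hinv : E.IsInvariantIn F) {W Y : Subgroup Ω} (hTW : T ≤ W) (hYW : Y ≤ W)
    (ψ : W →* Ω) (hψ : ψ ∈ F.Hom W) (hY : InX F E Y) :
    InX F E ((Y.subgroupOf W).map ψ) := by
  have hT : F.StronglyClosed T := hinv.2.1
  have hTS : T ≤ S := hT.1
  have hψS : ∀ w : W, ψ w ∈ S := (F.le_of_mem hψ).2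
  have hψinj : Function.Injective ψ := F.injective_of_mem hψ
  haveI : Finite T :=
    Finite.of_injective (Subgroup.inclusion hTS) (Subgroup.inclusion_injective hTS)
  have hθ : ψ.comp (Subgroup.inclusion hTW) ∈ F.Hom T := restrict_mem F hTW hψ
  have hθT : ∀ t : T, ψ (Subgroup.inclusion hTW t) ∈ T := fun t => hT.2 T le_rfl _ hθ t
  have hsurj : ∀ t : T, ∃ t' : T, ψ (Subgroup.inclusion hTW t') = (t : Ω) := by
    have hinj : Function.Injective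
        (fun t : T => (⟨ψ (Subgroup.inclusion hTW t), hθT t⟩ : T)) := by
      intro a b hab
      have h1 : ψ (Subgroup.inclusion hTW a) = ψ (Subgroup.inclusion hTW b) :=
        congrArg Subtype.val hab
      exact Subgroup.inclusion_injective hTW (hψinj h1)
    intro t
    obtain ⟨t', ht'⟩ := (Finite.injective_iff_surjective.mp hinj) t
    exact ⟨t', congrArg Subtype.val ht'⟩
  obtain ⟨ι, hι, hιv, -⟩ := exists_inv F hψ (rfl : ψ.range = ψ.range)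
  have hTr : T ≤ ψ.range := by
    intro t ht
    obtain ⟨t', ht'⟩ := hsurj ⟨t, ht⟩
    exact ⟨_, ht'⟩
  have hψι : ∀ (r : Ω) (hr : r ∈ ψ.range) (hw : ι ⟨r, hr⟩ ∈ W), ψ ⟨ι ⟨r, hr⟩, hw⟩ = r := by
    intro r hr hw
    obtain ⟨w, rfl⟩ := hr
    have := hιv w ⟨w, rfl⟩
    exact congrArg ψ (Subtype.ext this)
  refine ⟨?_, ?_⟩
  · rintro _ ⟨y, hy, rfl⟩
    rw [mem_centralizerIn]
    refine ⟨hψS y, fun t ht => ?_⟩
    obtain ⟨t', ht'⟩ := hsurj ⟨t, ht⟩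
    have hyY : (y : Ω) ∈ Y := Subgroup.mem_subgroupOf.mp hy
    have hc := (mem_centralizerIn.mp (hY.1 hyY)).2 (t' : Ω) t'.2
    have hc' : Subgroup.inclusion hTW t' * y = y * Subgroup.inclusion hTW t' := Subtype.ext hc
    have h3 := congrArg ψ hc'
    rw [map_mul, map_mul, ht'] at h3
    exact h3
  · intro P φ hφ
    have hPT : P ≤ T := (E.le_of_mem hφ).1
    have hφT : ∀ x : P, φ x ∈ T := (E.le_of_mem hφ).2
    have hSI := strongInv_of_isInvariantIn hinv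
    have hιT : ι.comp (Subgroup.inclusion hTr) ∈ F.Hom T := restrict_mem F hTr hι
    obtain ⟨φ', hφ', hφ'v⟩ := hSI P T hPT le_rfl φ hφ hφT _ hιT
    obtain ⟨χ, hχ, hχP, hχY⟩ := hY.2 _ φ' hφ'
    have hP'T := (E.le_of_mem hφ').1
    have hφ'T := (E.le_of_mem hφ').2
    have hc : ∀ z, χ z ∈ W := by
      apply csxti_sup_mem χ W
      · intro a ha
        have := hχP ⟨a, ha⟩
        have e : χ ⟨a, (le_sup_left : _ ≤ _ ⊔ Y) ha⟩ = φ' ⟨a, ha⟩ := this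
        rw [e]
        exact hTW (hφ'T _)
      · intro b hb
        have := hχY ⟨b, hb⟩
        have e : χ ⟨b, (le_sup_right : Y ≤ _ ⊔ Y) hb⟩ = b := this
        rw [e]
        exact hYW hb
    have hle : P ⊔ (Y.subgroupOf W).map ψ ≤ ψ.range := by
      refine sup_le (hPT.trans hTr) ?_
      rintro _ ⟨y, -, rfl⟩
      exact ⟨y, rfl⟩
    have hι' : ι.comp (Subgroup.inclusion hle) ∈ F.Hom (P ⊔ (Y.subgroupOf W).map ψ) :=
      restrict_mem F hle hι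
    have hmemP' : ∀ (a : Ω) (ha : a ∈ P), ι ⟨a, hTr (hPT ha)⟩ ∈
        (P.subgroupOf T).map (ι.comp (Subgroup.inclusion hTr)) :=
      fun a ha => ⟨⟨a, hPT ha⟩, Subgroup.mem_subgroupOf.mpr ha, rfl⟩
    have he : ∀ z : ↥(P ⊔ (Y.subgroupOf W).map ψ), (ι.comp (Subgroup.inclusion hle)) z ∈
        (P.subgroupOf T).map (ι.comp (Subgroup.inclusion hTr)) ⊔ Y := by
      apply csxti_sup_mem
      · intro a ha
        exact le_sup_left (a := (P.subgroupOf T).map (ι.comp (Subgroup.inclusion hTr)))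
          (hmemP' a ha)
      · rintro _ ⟨y, hy, rfl⟩
        have hyY : (y : Ω) ∈ Y := Subgroup.mem_subgroupOf.mp hy
        have e : (ι.comp (Subgroup.inclusion hle)) ⟨ψ y, (le_sup_right :
            (Y.subgroupOf W).map ψ ≤ P ⊔ (Y.subgroupOf W).map ψ) ⟨y, hy, rfl⟩⟩ = (y : Ω) :=
          hιv y _
        rw [e]
        exact le_sup_right (a := (P.subgroupOf T).map (ι.comp (Subgroup.inclusion hTr))) hyY
    have h1 := F.comp_mem hι' hχ he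
    have hcW : ∀ z : ↥(P ⊔ (Y.subgroupOf W).map ψ),
        (χ.comp ((ι.comp (Subgroup.inclusion hle)).codRestrict _ he)) z ∈ W := fun z => hc _
    have h2 := F.comp_mem h1 hψ hcW
    refine ⟨_, h2, fun x => ?_, fun y' => ?_⟩
    · have ha := hmemP' x x.2
      have e1 : χ ⟨ι ⟨(x : Ω), hTr (hPT x.2)⟩, (le_sup_left : _ ≤ _ ⊔ Y) ha⟩ = φ' ⟨_, ha⟩ :=
        hχP ⟨_, ha⟩
      have e2 : φ' ⟨ι ⟨(x : Ω), hTr (hPT x.2)⟩, ha⟩ = ι ⟨φ x, hTr (hφT x)⟩ := hφ'v x ha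
      have e3 := e1.trans e2
      have hw : ι ⟨φ x, hTr (hφT x)⟩ ∈ W := by
        rw [← e3]; exact hc _
      have e4 := hψι (φ x) (hTr (hφT x)) hw
      rw [← e4]
      exact hom_congr_val ψ _ _ e3
    · obtain ⟨_, y, hy, rfl⟩ := y'
      have hyY : (y : Ω) ∈ Y := Subgroup.mem_subgroupOf.mp hy
      have e0 : ι ⟨ψ y, ⟨y, rfl⟩⟩ = (y : Ω) := hιv y _
      have e1 : χ ⟨(y : Ω), (le_sup_right : Y ≤ _ ⊔ Y) hyY⟩ = (y : Ω) := hχY ⟨y, hyY⟩
      have e5 : χ ⟨ι ⟨ψ y, ⟨y, rfl⟩⟩, he ⟨ψ y, le_sup_right (a := P) ⟨y, hy, rfl⟩⟩⟩ = (y : Ω) := by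
        rw [← e1]
        exact hom_congr_val χ _ _ e0
      show ψ ⟨χ ⟨ι ⟨ψ y, _⟩, _⟩, _⟩ = ψ y
      exact congrArg ψ (Subtype.ext e5)

end Cfsg.Agent.Helper5.CSX
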