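import Mathlib
import Cfsg.Agent.Lib.CSX.CSXTI
import Cfsg.Agent.Lib.CSX.CSXMono

/-!
# S5127 piece CSX-TI2: maps defined on a subgroup containing `T` preserve `cSE F E`
(uses `hC : InX F E (cSE F E)`, the result of Part I, as a hypothesis)
RECIPE.  `map_mem_cSE`: `Y := cSE F E ⊓ W`; `inX_mono F E inf_le_left hC : InX F E Y`;
`inX_map F E hinv hTW inf_le_right ψ hψ _ : InX F E ((Y.subgroupOf W).map ψ)`; `le_cSE` and
`ψ y ∈ (Y.subgroupOf W).map ψ`.
`pres_of_le`: `→` is `map_mem_cSE`.  `←`: `ψ` maps `T` into `T` (`hinv.2.1 : F.StronglyClosed T`)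
injectively, `T` finite, so `T ≤ ψ.range` (cardinality: `Subgroup.eq_of_le_of_card_ge` for
`(T.subgroupOf W).map ψ ≤ T`); `Helper25.exists_inv F hψ rfl` gives `ι ∈ F.Hom ψ.range` with
`ι (ψ y) = y`; apply `map_mem_cSE` to `ι` (with `W := ψ.range`).
`pres_conj`: `conjHom P g = (conjHom S g).comp (Subgroup.inclusion hP)` (ext; rfl),
`conjHom S g ∈ F.Hom S` (`F.conj_mem le_rfl hg`), `pres_of_le` with `W := S`
(`hinv.2.1.1 : T ≤ S`).  Aux names: prefix `csxti2_`.
-/

set_option autoImplicit false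
set_option linter.style.haveILetI false

namespace Cfsg.Agent.Helper5.CSX

open Cfsg Cfsg.FusionSystem Cfsg.Agent.Helper25 Cfsg.Agent.Helper3.CSE

variable {Ω : Type*} [Group Ω] {S : Subgroup Ω}

theorem map_mem_cSE [Finite S] (F : FusionSystem S) {T : Subgroup Ω} (E : FusionSystem T)
    (hinv : E.IsInvariantIn F) (hC : InX F E (cSE F E)) {W : Subgroup Ω} (hTW : T ≤ W)
    (ψ : W →* Ω) (hψ : ψ ∈ F.Hom W) (y : W) (hy : (y : Ω) ∈ cSE F E) : ψ y ∈ cSE F E := by
  have hY : InX F E (cSE F E ⊓ W) := inX_mono F E inf_le_left hC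
  have hmap := inX_map F E hinv hTW (inf_le_right : cSE F E ⊓ W ≤ W) ψ hψ hY
  have hle := le_cSE F E hmap
  apply hle
  exact ⟨y, Subgroup.mem_subgroupOf.mpr ⟨hy, y.2⟩, rfl⟩

theorem pres_of_le [Finite S] (F : FusionSystem S) {T : Subgroup Ω} (E : FusionSystem T)
    (hinv : E.IsInvariantIn F) (hC : InX F E (cSE F E)) {W : Subgroup Ω} (hTW : T ≤ W)
    (ψ : W →* Ω) (hψ : ψ ∈ F.Hom W) : Pres F E W ψ := by
  intro x
  constructor
  · intro hx
    exact map_mem_cSE F E hinv hC hTW ψ hψ x hx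
  · intro hx
    have hTS : T ≤ S := hinv.2.1.1
    haveI : Finite T := finite_of_le_finite hTS
    have hres : ψ.comp (Subgroup.inclusion hTW) ∈ F.Hom T := restrict_mem F hTW hψ
    have hval : ∀ t : T, ψ (Subgroup.inclusion hTW t) ∈ T := fun t =>
      hinv.2.1.2 T le_rfl _ hres t
    have hinj : Function.Injective (fun t : T => (⟨ψ (Subgroup.inclusion hTW t), hval t⟩ : T)) := by
      intro a b hab
      have h1 : ψ (Subgroup.inclusion hTW a) = ψ (Subgroup.inclusion hTW b) := by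
        have := congrArg (fun z : T => (z : Ω)) hab
        exact this
      have h2 := F.injective_of_mem hψ h1
      exact Subgroup.inclusion_injective hTW h2
    have hsurj := Finite.injective_iff_surjective.mp hinj
    have hTr : T ≤ ψ.range := by
      intro t ht
      obtain ⟨a, ha⟩ := hsurj ⟨t, ht⟩
      refine ⟨Subgroup.inclusion hTW a, ?_⟩
      have := congrArg (fun z : T => (z : Ω)) ha
      exact this
    obtain ⟨ι, hι, hinv', -⟩ := exists_inv F hψ (rfl : ψ.range = ψ.range)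
    have h1 := map_mem_cSE F E hinv hC hTr ι hι ⟨ψ x, ⟨x, rfl⟩⟩ hx
    rw [hinv' x ⟨x, rfl⟩] at h1
    exact h1

theorem pres_conj [Finite S] (F : FusionSystem S) {T : Subgroup Ω} (E : FusionSystem T)
    (hinv : E.IsInvariantIn F) (hC : InX F E (cSE F E)) {P : Subgroup Ω} {g : Ω} (hP : P ≤ S)
    (hg : g ∈ S) : Pres F E P (conjHom P g) := by
  have h := pres_of_le F E hinv hC hinv.2.1.1 (conjHom S g) (F.conj_mem le_rfl hg)
  intro x
  exact h (Subgroup.inclusion hP x)

end Cfsg.Agent.Helper5.CSX
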