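import Mathlib
import Cfsg.Agent.Lib.CSX.CSXTI2
import Cfsg.Agent.Lib.CSX.CSXAENormal
import Cfsg.Agent.Lib.CSX.CSXExtV
import Cfsg.Agent.Lib.CSX.CSXKFix
import Cfsg.Agent.Lib.CSE.CSEGen
import Cfsg.Agent.Lib.Helper24.BG101B
import Cfsg.Agent.Lib.Helper25.FusionSat3

/-!
# S5127 (helper5, assembly): the "good" essential case: every automorphism of a good `U` preserves
`cSE F E` (Frattini argument in `Aut_F(U)` with the normal subgroup `aE`, then `gen_induction` in `aE`)
-/

set_option autoImplicit false

namespace Cfsg.Agent.Helper5.CSX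

open Cfsg Cfsg.FusionSystem Cfsg.Agent.Helper25 Cfsg.Agent.Helper3.CSE

variable {Ω : Type*} [Group Ω] {S : Subgroup Ω}

theorem pres_good [Finite S] (p : ℕ) [Fact p.Prime] (hS : IsPGroup p S)
    (F : FusionSystem S) (hF : F.IsSaturated p) {T : Subgroup Ω} (E : FusionSystem T)
    (hE : E.IsNormalIn F p) (hC : InX F E (cSE F E)) {U : Subgroup Ω} (hU : GoodU p F T U)
    (IH : ∀ (P : Subgroup Ω) (φ : P →* Ω), φ ∈ F.Hom P → Nat.card U < Nat.card P →
      Pres F E P φ)
    (α : MulAut U) (hα : α ∈ F.autGroup U) :
    Pres F E U (U.subtype.comp α.toMonoidHom) := by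
  have hinv := hE.1.2.2
  have hUS : U ≤ S := hU.fn.1
  by_cases hTU : T ≤ U
  · exact pres_of_le F E hinv hC hTU _ ((mem_autGroup_iff F hUS α).mp hα)
  · haveI hfU : Finite U := finite_of_le_finite hUS
    haveI hfA : Finite ↥(F.autGroup U) := inferInstance
    obtain ⟨-, hfa, -⟩ := of_fullyNormalized p hS F hF hU.fn
    obtain ⟨-, QA, hQA⟩ := hfa
    haveI hnorm : (aE F E U).Normal := aE_normal F E hinv hUS
    have hfr := Cfsg.Agent.Helper24.BG101.frattini_inf p QA (aE F E U)
    have h1 : Subgroup.normalizer ((((QA : Subgroup ↥(F.autGroup U)) ⊓ aE F E U :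
        Subgroup ↥(F.autGroup U))) : Set ↥(F.autGroup U)) ≤ presSub F E U := by
      intro ν hν
      rw [hQA] at hν
      exact normalizer_le_presSub p hS F hF E hE hU hTU IH ν hν
    have h2 : aE F E U ≤ presSub F E U := by
      set QL := Cfsg.Agent.Helper24.BG101.infSylow p QA (aE F E U) with hQL
      have hQLcoe : (QL : Subgroup ↥(aE F E U)) =
          ((QA : Subgroup ↥(F.autGroup U)) ⊓ aE F E U).subgroupOf (aE F E U) := rfl
      have hQLS : ∀ a ∈ (QL : Subgroup ↥(aE F E U)),
          (((a : ↥(aE F E U)) : ↥(F.autGroup U)) : MulAut U) ∈ autInducedBy S U := by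
        intro a ha
        rw [hQLcoe, Subgroup.mem_subgroupOf] at ha
        have h3 : ((a : ↥(aE F E U)) : ↥(F.autGroup U)) ∈ (QA : Subgroup ↥(F.autGroup U)) := ha.1
        rw [hQA, Subgroup.mem_subgroupOf] at h3
        exact h3
      have htop : (presSub F E U).subgroupOf (aE F E U) = ⊤ := by
        apply gen_induction p QL
        · intro a ha
          rw [Subgroup.mem_subgroupOf, mem_presSub]
          have h := hQLS a ha
          obtain ⟨g, hg, hgx⟩ := (mem_autInducedBy_iff _).mp h
          have e : U.subtype.comp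
              ((((a : ↥(aE F E U)) : ↥(F.autGroup U)) : MulAut U)).toMonoidHom = conjHom U g := by
            ext x
            exact hgx x
          rw [e]
          exact pres_conj F E hinv hC hUS hg
        · intro ν hν
          rw [Subgroup.mem_subgroupOf]
          apply h1
          rw [Subgroup.mem_normalizer_iff] at hν ⊢
          intro b
          constructor
          · intro hb
            have hb' : (⟨b, hb.2⟩ : ↥(aE F E U)) ∈ (QL : Subgroup ↥(aE F E U)) := by
              rw [hQLcoe, Subgroup.mem_subgroupOf]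
              exact hb
            have h3 := (hν ⟨b, hb.2⟩).mp hb'
            rw [hQLcoe, Subgroup.mem_subgroupOf] at h3
            exact h3
          · intro hb
            have hbL : b ∈ aE F E U := by
              have h3 := hb.2
              have h4 := (aE F E U).mul_mem ((aE F E U).mul_mem ((aE F E U).inv_mem ν.2) h3) ν.2
              have e : ((ν : ↥(F.autGroup U)))⁻¹ * ((ν : ↥(F.autGroup U)) * b *
                  ((ν : ↥(F.autGroup U)))⁻¹) * (ν : ↥(F.autGroup U)) = b := by group
              rwa [e] at h4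
            have h5 : (ν * ⟨b, hbL⟩ * ν⁻¹ : ↥(aE F E U)) ∈ (QL : Subgroup ↥(aE F E U)) := by
              rw [hQLcoe, Subgroup.mem_subgroupOf]
              exact hb
            have h3 := (hν ⟨b, hbL⟩).mpr h5
            rw [hQLcoe, Subgroup.mem_subgroupOf] at h3
            exact h3
        · intro κ hκ hord
          rw [Subgroup.mem_subgroupOf, mem_presSub]
          have hfixκ := kappa_fix p hS F hF E hE hC hU QL hQLS κ hκ hord
          have hκinv : κ⁻¹ ∈ Subgroup.normalClosure
              ((QL : Subgroup ↥(aE F E U)) : Set ↥(aE F E U)) := Subgroup.inv_mem _ hκ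
          have hordinv : (orderOf κ⁻¹).Coprime p := by rwa [orderOf_inv]
          have hfixκ' := kappa_fix p hS F hF E hE hC hU QL hQLS κ⁻¹ hκinv hordinv
          intro x
          constructor
          · intro hx
            show (((((κ : ↥(aE F E U)) : ↥(F.autGroup U)) : MulAut U) x : U) : Ω) ∈ cSE F E
            rw [hfixκ x hx]
            exact hx
          · intro hx
            have hx' : (((((κ : ↥(aE F E U)) : ↥(F.autGroup U)) : MulAut U) x : U) : Ω) ∈
                cSE F E := hx
            have h6 := hfixκ' ((((κ : ↥(aE F E U)) : ↥(F.autGroup U)) : MulAut U) x) hx'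
            have h7 : ((((κ⁻¹ : ↥(aE F E U)) : ↥(F.autGroup U)) : MulAut U))
                ((((κ : ↥(aE F E U)) : ↥(F.autGroup U)) : MulAut U) x) = x := by
              show (((κ : ↥(aE F E U)) : ↥(F.autGroup U)) : MulAut U)⁻¹
                ((((κ : ↥(aE F E U)) : ↥(F.autGroup U)) : MulAut U) x) = x
              exact MulAut.inv_apply_self _ _ _
            rw [h7] at h6
            rw [h6]
            exact hx'
      intro a ha
      have h3 : (⟨a, ha⟩ : ↥(aE F E U)) ∈ (presSub F E U).subgroupOf (aE F E U) := by
        rw [htop]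
        exact Subgroup.mem_top _
      exact Subgroup.mem_subgroupOf.mp h3
    have htop : presSub F E U = ⊤ := by
      apply top_le_iff.mp
      rw [← hfr]
      exact sup_le h1 h2
    have h3 : (⟨α, hα⟩ : ↥(F.autGroup U)) ∈ presSub F E U := by
      rw [htop]
      exact Subgroup.mem_top _
    exact (mem_presSub F E U ⟨α, hα⟩).mp h3

end Cfsg.Agent.Helper5.CSX
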