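import Mathlib
import Cfsg.Agent.Lib.CSX.CSXTI
import Cfsg.Agent.Lib.Helper16.PPowNormal3

/-!
# S5127 piece CSX-AUTX: the `aut` field of `XHyp` for `X = cSE F E`
RECIPE.  `hT : F.StronglyClosed T := hE.1.2.2.2.1`.  As in `Helper3.CSE.exists_aut_ext_focC`
(`Lib/CSE/CSEAutTop.lean`): `Helper16.PPowNormal.exists_aut_ext p hS F hF hT γ hγ` gives
`β ∈ F.autGroup Q`, `Q := T ⊔ centralizerIn S T`, extending `γ`.  Invariance of `cSE F E`:
`ψ := Q.subtype.comp β.toMonoidHom ∈ F.Hom Q` (`Helper25.mem_autGroup_iff`, `Q ≤ S`).  Show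
`cSE F E ≤ D` for the subgroup `D := ((cSE F E).comap ψ).map Q.subtype` of `Ω` (then for `y : Q`
with `(y : Ω) ∈ cSE F E` unfold membership in `D` and use injectivity of `Q.subtype`):
by `sSup_le`, for `Y` with `hY : InX F E Y`: `Y ≤ centralizerIn S T ≤ Q`, and
`inX_map F E hE.1.2.2 le_sup_left hYQ ψ hψ hY : InX F E ((Y.subgroupOf Q).map ψ)`, so
`(Y.subgroupOf Q).map ψ ≤ cSE F E` (`le_cSE`), i.e. `ψ ⟨y, _⟩ ∈ cSE F E` for `y ∈ Y`.
Aux names: prefix `csxautx_`.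
-/

set_option autoImplicit false

namespace Cfsg.Agent.Helper5.CSX

open Cfsg Cfsg.FusionSystem Cfsg.Agent.Helper25 Cfsg.Agent.Helper3.CSE

variable {Ω : Type*} [Group Ω] {S : Subgroup Ω}

theorem aut_cSE [Finite S] (p : ℕ) [Fact p.Prime] (hS : IsPGroup p S) (F : FusionSystem S)
    (hF : F.IsSaturated p) {T : Subgroup Ω} (E : FusionSystem T) (hE : E.IsNormalIn F p)
    (γ : MulAut T) (hγ : γ ∈ F.autGroup T) :
    ∃ β ∈ F.autGroup (T ⊔ centralizerIn S T),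
      (∀ x : T, ((β (Subgroup.inclusion le_sup_left x) : ↥(T ⊔ centralizerIn S T)) : Ω) =
        ((γ x : T) : Ω)) ∧
      ∀ y : ↥(T ⊔ centralizerIn S T), (y : Ω) ∈ cSE F E →
        ((β y : ↥(T ⊔ centralizerIn S T)) : Ω) ∈ cSE F E := by
  have hinv : E.IsInvariantIn F := hE.1.2.2
  have hT : F.StronglyClosed T := hinv.2.1
  obtain ⟨β, hβ, hβx⟩ := Cfsg.Agent.Helper16.PPowNormal.exists_aut_ext p hS F hF hT γ hγ
  refine ⟨β, hβ, hβx, ?_⟩
  have hCS : centralizerIn S T ≤ S := inf_le_left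
  have hQS : T ⊔ centralizerIn S T ≤ S := sup_le hT.1 hCS
  obtain ⟨ψ, hψdef⟩ : ∃ ψ : ↥(T ⊔ centralizerIn S T) →* Ω,
      ψ = (T ⊔ centralizerIn S T).subtype.comp β.toMonoidHom := ⟨_, rfl⟩
  have hψ : ψ ∈ F.Hom (T ⊔ centralizerIn S T) := by
    rw [hψdef]
    exact (mem_autGroup_iff F hQS β).mp hβ
  have hle : cSE F E ≤ ((cSE F E).comap ψ).map (T ⊔ centralizerIn S T).subtype := by
    apply sSup_le
    intro Y hY y hy
    have hYQ : Y ≤ T ⊔ centralizerIn S T := le_trans hY.1 le_sup_right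
    have hmap : InX F E ((Y.subgroupOf (T ⊔ centralizerIn S T)).map ψ) :=
      inX_map F E hinv le_sup_left hYQ ψ hψ hY
    have hle2 := le_cSE F E hmap
    refine Subgroup.mem_map.mpr ⟨⟨y, hYQ hy⟩, ?_, rfl⟩
    rw [Subgroup.mem_comap]
    apply hle2
    exact Subgroup.mem_map_of_mem ψ (Subgroup.mem_subgroupOf.mpr hy)
  intro y hy
  obtain ⟨w, hw, hwy⟩ := Subgroup.mem_map.mp (hle hy)
  have hwy' : w = y := Subtype.ext hwy
  rw [Subgroup.mem_comap, hwy', hψdef] at hw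
  exact hw

end Cfsg.Agent.Helper5.CSX
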