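import Mathlib
import Cfsg.Agent.Lib.CSX.CSXDefs2
import Cfsg.Agent.Lib.CSX.CSXMono
import Cfsg.Agent.Lib.CSX.CSXNt
import Cfsg.Agent.Lib.CSE.CSEKill
import Cfsg.Agent.Lib.CSE.CSEOfLiftZ

/-!
# S5127 piece CSX-LIFTA: the `p'`-witness `β` of `η ∈ Aut_E(R)` fixes every `Y` of the family
RECIPE.  `Q := R ⊔ centralizerIn S R`.  `β` maps `R` into `R` (`hβη`, as in
`Helper3.CSE.extFix_of_liftZ`, file `Lib/CSE/CSEOfLiftZ.lean` lines 36-41).  `Helper3.CSE.kill p hS F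
hF hRS hRfc β hβ hβR hβZ m hm hβm : ∀ y : Q, (y : Ω) ∈ focC F R → β y = y`.  Let `y ∈ Y`.
`y ∈ centralizerIn S T ≤ centralizerIn S R` (`hY.1`, `Helper3.CSE.centralizerIn_anti hRT`), so
`y ∈ Q`; put `x : Q := ⟨y, _⟩`.  `hY.2 R (R.subtype.comp η.toMonoidHom) ((Helper25.mem_autGroup_iff E
hRT η).mp hη) : ExtFix F Y R _`; `extFix_mono F (Subgroup.zpowers_le.mpr hy)` turns it into
`ExtFix F (zpowers y) R _ = ∃ ψ ∈ F.Hom (R ⊔ zpowers y), (ψ = η on R) ∧ (ψ fixes zpowers y)`.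
Apply `norm_trick p hS F (le_sup_left : R ≤ Q) hQS β hβ hβR m hm hβm x _ _ ψ hψ _ _ hfix` with
`hxt := zOf_le R (hβZ x _)` and `hfix t ht _ := hkill t ht`; conclude with `mem_fixOf`.
Aux names: prefix `csxlifta_`.
-/

set_option autoImplicit false

namespace Cfsg.Agent.Helper5.CSX

open Cfsg Cfsg.FusionSystem Cfsg.Agent.Helper25 Cfsg.Agent.Helper3.CSE

variable {Ω : Type*} [Group Ω] {S : Subgroup Ω}

theorem le_fixOf_of_inX [Finite S] (p : ℕ) [Fact p.Prime] (hS : IsPGroup p S) (F : FusionSystem S)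
    (hF : F.IsSaturated p) {T : Subgroup Ω} (E : FusionSystem T) (hTS : T ≤ S)
    {R : Subgroup Ω} (hRT : R ≤ T) (hRfc : F.IsFullyCentralized R)
    (η : MulAut R) (hη : η ∈ E.autGroup R)
    (β : MulAut ↥(R ⊔ centralizerIn S R)) (hβ : β ∈ F.autGroup (R ⊔ centralizerIn S R))
    (hβη : ∀ x : R, ((β (Subgroup.inclusion le_sup_left x) : ↥(R ⊔ centralizerIn S R)) : Ω) =
      ((η x : R) : Ω))
    (hβZ : ∀ c : ↥(R ⊔ centralizerIn S R), (c : Ω) ∈ centralizerIn S R →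
      (c : Ω)⁻¹ * ((β c : ↥(R ⊔ centralizerIn S R)) : Ω) ∈ zOf R)
    (m : ℕ) (hm : m.Coprime p) (hβm : β ^ m = 1)
    {Y : Subgroup Ω} (hY : InX F E Y) : Y ≤ fixOf β := by
  have hRS : R ≤ S := hRT.trans hTS
  have hQS : R ⊔ centralizerIn S R ≤ S := sup_le hRS centralizerIn_le
  have hβR : ∀ x : ↥(R ⊔ centralizerIn S R), (x : Ω) ∈ R →
      ((β x : ↥(R ⊔ centralizerIn S R)) : Ω) ∈ R := by
    intro x hx
    have h1 : x = Subgroup.inclusion le_sup_left (⟨(x : Ω), hx⟩ : R) := Subtype.ext rfl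
    rw [h1, hβη]
    exact (η _).2
  have hkill := kill p hS F hF hRS hRfc β hβ hβR hβZ m hm hβm
  intro y hy
  have hyC : y ∈ centralizerIn S R := centralizerIn_anti hRT (hY.1 hy)
  have hyQ : y ∈ R ⊔ centralizerIn S R := (le_sup_right : centralizerIn S R ≤ _) hyC
  have hext : ExtFix F (Subgroup.zpowers y) R (R.subtype.comp η.toMonoidHom) :=
    extFix_mono F (Subgroup.zpowers_le.mpr hy)
      (hY.2 R (R.subtype.comp η.toMonoidHom) ((mem_autGroup_iff E hRT η).mp hη))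
  obtain ⟨ψ, hψ, hψR, hψY⟩ := hext
  have hkey := norm_trick p hS F (le_sup_left : R ≤ R ⊔ centralizerIn S R) hQS β hβ hβR m hm hβm
    (⟨y, hyQ⟩ : ↥(R ⊔ centralizerIn S R)) hyC (zOf_le R (hβZ ⟨y, hyQ⟩ hyC)) ψ hψ
    (fun r => by
      rw [hψR r]
      exact (hβη r).symm)
    (hψY ⟨y, Subgroup.mem_zpowers y⟩)
    (fun t ht _ => hkill t ht)
  exact (mem_fixOf β).mpr ⟨hyQ, hkey⟩

end Cfsg.Agent.Helper5.CSX
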