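import Mathlib
import Cfsg.Agent.Lib.CSX.CSXDefs2
import Cfsg.Agent.Lib.CSE.CSEOfLiftZ

/-!
# S5127 piece CSX-LIFTB: an extension `β` of `η` to `R C_S(R)` fixing `X` gives `ExtFix F X R η`
RECIPE.  Copy the end of `Helper3.CSE.extFix_of_liftZ` (`Lib/CSE/CSEOfLiftZ.lean`, lines 43-55):
`hle : R ⊔ X ≤ R ⊔ centralizerIn S R := sup_le_sup_left hXR R`,
`ψ := ((R ⊔ centralizerIn S R).subtype.comp β.toMonoidHom).comp (Subgroup.inclusion hle)`,
in `F.Hom` by `Helper25.mem_autGroup_iff` + `Helper25.restrict_mem`; on `R` use `hβη`; on `X` use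
`(mem_fixOf β).mp (hfix x.2)`.  Aux names: prefix `csxliftb_`.
-/

set_option autoImplicit false

namespace Cfsg.Agent.Helper5.CSX

open Cfsg Cfsg.FusionSystem Cfsg.Agent.Helper25 Cfsg.Agent.Helper3.CSE

variable {Ω : Type*} [Group Ω] {S : Subgroup Ω}

theorem extFix_of_le_fixOf (F : FusionSystem S) {R X : Subgroup Ω} (hRS : R ≤ S)
    (hXR : X ≤ centralizerIn S R) (η : MulAut R)
    (β : MulAut ↥(R ⊔ centralizerIn S R)) (hβ : β ∈ F.autGroup (R ⊔ centralizerIn S R))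
    (hβη : ∀ x : R, ((β (Subgroup.inclusion le_sup_left x) : ↥(R ⊔ centralizerIn S R)) : Ω) =
      ((η x : R) : Ω))
    (hfix : X ≤ fixOf β) : ExtFix F X R (R.subtype.comp η.toMonoidHom) := by
  have hQS : R ⊔ centralizerIn S R ≤ S := sup_le hRS centralizerIn_le
  have hβF := (mem_autGroup_iff F hQS β).mp hβ
  have hle : R ⊔ X ≤ R ⊔ centralizerIn S R := sup_le_sup_left hXR R
  refine ⟨((R ⊔ centralizerIn S R).subtype.comp β.toMonoidHom).comp (Subgroup.inclusion hle),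
    restrict_mem F hle hβF, ?_, ?_⟩
  · intro x
    exact hβη x
  · intro x
    obtain ⟨h, hg⟩ := (mem_fixOf β).mp (hfix x.2)
    show ((β ⟨(x : Ω), _⟩ : ↥(R ⊔ centralizerIn S R)) : Ω) = x
    have h3 : ((β ⟨(x : Ω), h⟩ : ↥(R ⊔ centralizerIn S R)) : Ω) = x := by rw [hg]
    exact h3

end Cfsg.Agent.Helper5.CSX
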