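import Mathlib
import Cfsg.Agent.Lib.CSX.CSXLiftA
import Cfsg.Agent.Lib.CSX.CSXLiftB
import Cfsg.Agent.Lib.CSE.CSEPow

/-!
# S5127 (helper5): the `lift` field of `XHyp` for `X = cSE F E`
-/

set_option autoImplicit false

namespace Cfsg.Agent.Helper5.CSX

open Cfsg Cfsg.FusionSystem Cfsg.Agent.Helper25 Cfsg.Agent.Helper3.CSE

variable {Ω : Type*} [Group Ω] {S : Subgroup Ω}

theorem lift_cSE [Finite S] (p : ℕ) [Fact p.Prime] (hS : IsPGroup p S) (F : FusionSystem S)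
    (hF : F.IsSaturated p) {T : Subgroup Ω} (E : FusionSystem T) (hTS : T ≤ S)
    {R : Subgroup Ω} (hRT : R ≤ T) (hRfc : F.IsFullyCentralized R)
    (η : MulAut R) (hη : η ∈ E.autGroup R) (hL : LiftZ F R η) (hord : (orderOf η).Coprime p) :
    ExtFix F (cSE F E) R (R.subtype.comp η.toMonoidHom) := by
  have hRS := hRT.trans hTS
  obtain ⟨β, hβ, hβη, hβZ, m, hm, hβm⟩ := liftZ_coprime p F hRS η hL hord
  have hfix : cSE F E ≤ fixOf β :=
    sSup_le (fun Y hY =>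
      le_fixOf_of_inX p hS F hF E hTS hRT hRfc η hη β hβ hβη hβZ m hm hβm hY)
  exact extFix_of_le_fixOf F hRS ((cSE_le F E).trans (centralizerIn_anti hRT)) η β hβ hβη hfix

end Cfsg.Agent.Helper5.CSX
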