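import Mathlib
import Cfsg.Agent.Lib.CSX.CSXDefs
import Cfsg.Agent.Lib.CSE.CSEOfLiftZ

/-!
# S5127 (helper5): helper3's `CSEOfLiftZ` with a general `X` satisfying `XHyp`
-/

set_option autoImplicit false

namespace Cfsg.Agent.Helper5.CSX

open Cfsg Cfsg.FusionSystem Cfsg.Agent.Helper25 Cfsg.Agent.Helper3.CSE

variable {Ω : Type*} [Group Ω] {S : Subgroup Ω}

theorem extFixX_of_fullyNormalized [Finite S] (p : ℕ) [Fact p.Prime] (hS : IsPGroup p S)
    (F : FusionSystem S) (hF : F.IsSaturated p) {T : Subgroup Ω} (E : FusionSystem T)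
    (hE : E.IsNormalIn F p) {X : Subgroup Ω} (hX : XHyp p F E X)
    {R : Subgroup Ω} (hRT : R ≤ T) (hRfn : F.IsFullyNormalized R)
    (hcen : centralizerIn T R ≤ R) (η : MulAut R) (hη : η ∈ bGrp E R)
    (hord : (orderOf η).Coprime p) :
    ExtFix F X R (R.subtype.comp η.toMonoidHom) := by
  obtain ⟨hRfc, -, -⟩ := of_fullyNormalized p hS F hF hRfn
  exact hX.lift hRT hRfc η (bGrp_le_autGroup E hRT hη)
    (bGrp_le_liftZ p hS F hF E hE hRT hRfn hcen η hη) hord

theorem extFixX_top_coprime [Finite S] (p : ℕ) [Fact p.Prime] (hS : IsPGroup p S)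
    (F : FusionSystem S) (hF : F.IsSaturated p) {T : Subgroup Ω} (E : FusionSystem T)
    (hE : E.IsNormalIn F p) {X : Subgroup Ω} (hX : XHyp p F E X)
    (α : MulAut T) (hα : α ∈ E.autGroup T)
    (hord : (orderOf α).Coprime p) :
    ExtFix F X T (T.subtype.comp α.toMonoidHom) := by
  have hT := hE.1.2.2.2.1
  have hTfn := Cfsg.Agent.Helper16.PPowNormal.isFullyNormalized_of_stronglyClosed F hT
  obtain ⟨hTfc, -, -⟩ := of_fullyNormalized p hS F hF hTfn
  have hL : LiftZ F T α := hE.2 α hα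
  exact hX.lift le_rfl hTfc α hα hL hord

theorem extFixX_top [Finite S] (p : ℕ) [Fact p.Prime] (hS : IsPGroup p S)
    (F : FusionSystem S) (hF : F.IsSaturated p) {T : Subgroup Ω} (E : FusionSystem T)
    (hE : E.IsNormalIn F p) {X : Subgroup Ω} (hX : XHyp p F E X)
    (α : MulAut T) (hα : α ∈ E.autGroup T) :
    ExtFix F X T (T.subtype.comp α.toMonoidHom) := by
  have hTS : T ≤ S := hE.1.2.2.2.1.1
  have : Finite T := finite_of_le_finite hTS
  exact extFix_top_gen p F E hE.1.1 hTS hX.le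
    (fun α hα hord => extFixX_top_coprime p hS F hF E hE hX α hα hord) α hα

end Cfsg.Agent.Helper5.CSX
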