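import Mathlib
import Cfsg.Agent.Lib.CSX.CSXDefs
import Cfsg.Agent.Lib.CSX.CSXOfLiftZ
import Cfsg.Agent.Lib.CSE.CSETransport
import Cfsg.Agent.Lib.CSE.CSEDefs
import Cfsg.Agent.Lib.CSE.CSEFoc
import Cfsg.Agent.Lib.CSE.CSEBasic
import Cfsg.Agent.Lib.CSE.CSEOfLiftZ
import Cfsg.Agent.Lib.CSE.CSEFnMap
import Cfsg.Agent.Lib.CSE.CSEAutTop
import Cfsg.Agent.Lib.CSE.CSEPull
import Cfsg.Agent.Lib.CSE.CSEBTrans
import Cfsg.Agent.Lib.CSE.CSECentric
import Cfsg.Agent.Lib.Helper25.FusionAut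

/-!
# S5127 (helper5): helper3's `CSETransport` with a general `X` satisfying `XHyp`
-/

set_option autoImplicit false

namespace Cfsg.Agent.Helper5.CSX

open Cfsg Cfsg.FusionSystem Cfsg.Agent.Helper25 Cfsg.Agent.Helper3.CSE

variable {Ω : Type*} [Group Ω] {S : Subgroup Ω}

theorem extFixX_transport [Finite S] (p : ℕ) [Fact p.Prime] (hS : IsPGroup p S)
    (F : FusionSystem S) (hF : F.IsSaturated p) {T : Subgroup Ω} (E : FusionSystem T)
    (hE : E.IsNormalIn F p) {X : Subgroup Ω} (hX : XHyp p F E X)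
    {R : Subgroup Ω} (hRT : R ≤ T) (hRne : R ≠ T)
    (hRc : E.IsCentric R)
    (IH : ∀ (P : Subgroup Ω) (φ : P →* Ω), φ ∈ E.Hom P → Nat.card R < Nat.card P →
      ExtFix F (X) P φ)
    (η : MulAut R) (hη : η ∈ bGrp E R) (hord : (orderOf η).Coprime p) :
    ExtFix F (X) R (R.subtype.comp η.toMonoidHom) := by
  have hinv := hE.1.2.2
  have hT := hinv.2.1
  have hTS : T ≤ S := hT.1
  have hRS := hRT.trans hTS
  have hfT : Finite T := finite_of_le_finite hTS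
  have hTp : IsPGroup p T := hS.to_le hTS
  have hXC : X ≤ centralizerIn S T := hX.le
  have hXS : X ≤ S := hXC.trans centralizerIn_le
  -- the map to a fully normalized conjugate
  obtain ⟨R', φ, hR'fn, hφ, hφR⟩ := exists_fn_map p hS F hF hRS
  have hR₁ : normalizerIn T R ≤ normalizerIn S R := inf_le_inf_right _ hTS
  have hR₁T : normalizerIn T R ≤ T := inf_le_left
  have hRR₁ : R ≤ normalizerIn T R := le_normalizerIn hRT
  have hφ₁ : φ.comp (Subgroup.inclusion hR₁) ∈ F.Hom (normalizerIn T R) := restrict_mem F hR₁ hφ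
  set φ₁ : ↥(normalizerIn T R) →* Ω := φ.comp (Subgroup.inclusion hR₁) with hφ₁def
  -- Frattini decomposition
  obtain ⟨γ, hγ, φ₀, hφ₀, hγφ₀⟩ := hinv.2.2.2 (normalizerIn T R) hR₁T φ₁ hφ₁
  have hcard : Nat.card R < Nat.card (normalizerIn T R) := card_lt_normalizerIn p hTp hRT hRne
  obtain ⟨φh, hφh, hφh1, hφh2⟩ := IH (normalizerIn T R) φ₀ hφ₀ hcard
  obtain ⟨γt, hγt, hγtT, hγtX⟩ := hX.aut γ hγ
  have hφ₀T : ∀ x : ↥(normalizerIn T R), φ₀ x ∈ T := (E.le_of_mem hφ₀).2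
  have hQS : T ⊔ centralizerIn S T ≤ S := sup_le hTS centralizerIn_le
  have hγtF := (mem_autGroup_iff F hQS γt).mp hγt
  -- values of `φh` lie in `T ⊔ C_S(T)`
  have hφhQ : ∀ z : ↥(normalizerIn T R ⊔ X), φh z ∈ T ⊔ centralizerIn S T := by
    apply csetr_sup_mem φh (T ⊔ centralizerIn S T)
    · intro a ha
      have := hφh1 ⟨a, ha⟩
      have e : (Subgroup.inclusion le_sup_left (⟨a, ha⟩ : ↥(normalizerIn T R)) :
          ↥(normalizerIn T R ⊔ X)) = ⟨a, (le_sup_left : normalizerIn T R ≤ _) ha⟩ := rfl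
      rw [e] at this
      rw [this]
      exact (le_sup_left : T ≤ T ⊔ centralizerIn S T) (hφ₀T _)
    · intro b hb
      have := hφh2 ⟨b, hb⟩
      have e : (Subgroup.inclusion le_sup_right (⟨b, hb⟩ : ↥X) :
          ↥(normalizerIn T R ⊔ X)) = ⟨b, (le_sup_right : X ≤ _) hb⟩ := rfl
      rw [e] at this
      rw [this]
      exact (le_sup_right : centralizerIn S T ≤ T ⊔ centralizerIn S T) (hXC hb)
  have hle : R ⊔ X ≤ normalizerIn T R ⊔ X := sup_le_sup_right hRR₁ X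
  have hφhr : φh.comp (Subgroup.inclusion hle) ∈ F.Hom (R ⊔ X) := restrict_mem F hle hφh
  -- the transport map `ψ`
  let ψ : ↥(R ⊔ X) →* Ω :=
    ((T ⊔ centralizerIn S T).subtype.comp γt.toMonoidHom).comp
      ((φh.comp (Subgroup.inclusion hle)).codRestrict (T ⊔ centralizerIn S T)
        (fun z => hφhQ _))
  have hψ : ψ ∈ F.Hom (R ⊔ X) := F.comp_mem hφhr hγtF (fun z => hφhQ _)
  -- `ψ` on `R`
  have hψR : ∀ (x : Ω) (hx : x ∈ R), ψ ⟨x, (le_sup_left : R ≤ R ⊔ X) hx⟩ =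
      φ₁ ⟨x, hRR₁ hx⟩ := by
    intro x hx
    have h1 := hφh1 ⟨x, hRR₁ hx⟩
    have h2 := hγφ₀ ⟨x, hRR₁ hx⟩ (hφ₀T _)
    rw [h2]
    have h3 := hγtT ⟨φ₀ ⟨x, hRR₁ hx⟩, hφ₀T _⟩
    rw [← h3]
    show ((γt ⟨φh _, _⟩ : ↥(T ⊔ centralizerIn S T)) : Ω) = _
    congr 2
    exact Subtype.ext h1
  -- `ψ` on `X`
  have hψX : ∀ (x : Ω) (hx : x ∈ X), ψ ⟨x, (le_sup_right : X ≤ R ⊔ X) hx⟩ ∈ X := by
    intro x hx
    have h1 := hφh2 ⟨x, hx⟩
    have h4 : (φh (Subgroup.inclusion hle ⟨x, (le_sup_right : X ≤ R ⊔ X) hx⟩) : Ω) = x := h1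
    show ((γt ⟨φh _, _⟩ : ↥(T ⊔ centralizerIn S T)) : Ω) ∈ X
    apply hγtX
    show φh _ ∈ X
    rw [h4]
    exact hx
  -- the restriction of `φ₁` to `R` and the isomorphism `e : R ≃* R'`
  have hθ : φ₁.comp (Subgroup.inclusion hRR₁) ∈ F.Hom R := restrict_mem F hRR₁ hφ₁
  set θ : R →* Ω := φ₁.comp (Subgroup.inclusion hRR₁) with hθdef
  have hθrange : θ.range = R' := by
    rw [← hφR]
    ext y
    constructor
    · rintro ⟨x, rfl⟩
      exact ⟨⟨(x : Ω), hR₁ (hRR₁ x.2)⟩, Subgroup.mem_subgroupOf.mpr x.2, rfl⟩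
    · rintro ⟨z, hz, rfl⟩
      exact ⟨⟨(z : Ω), Subgroup.mem_subgroupOf.mp hz⟩, rfl⟩
  let e : R ≃* R' := (homEquiv F hθ).trans (MulEquiv.subgroupCongr hθrange)
  have he : ∀ x : R, ((e x : R') : Ω) = φ₁ ⟨(x : Ω), le_normalizerIn hRT x.2⟩ := fun x => rfl
  have hη' : MulAut.congr e η ∈ bGrp E R' := bGrp_transport p F E hE hRT φ₁ hφ₁ e he η hη
  have hord' : (orderOf (MulAut.congr e η)).Coprime p := by
    rw [MulEquiv.orderOf_eq]
    exact hord
  have hR'T : R' ≤ T := by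
    rw [← hθrange]
    rintro _ ⟨x, rfl⟩
    exact hT.2 R hRT θ hθ x
  have hcen' : centralizerIn T R' ≤ R' :=
    centralizerIn_le_of_isConj p F E hE hRT hRc ⟨θ, hθ, hθrange⟩
  have hFN := extFixX_of_fullyNormalized p hS F hF E hE hX hR'T hR'fn hcen' (MulAut.congr e η) hη' hord'
  -- the two image conditions for `ψ`
  have hψinj := F.injective_of_mem hψ
  have hfRX : Finite ↥(R ⊔ X) := finite_of_le_finite (sup_le hRS hXS)
  have hψRmap : (R.subgroupOf (R ⊔ X)).map ψ = R' := by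
    rw [← hθrange]
    ext y
    constructor
    · rintro ⟨z, hz, rfl⟩
      have hzR : (z : Ω) ∈ R := Subgroup.mem_subgroupOf.mp hz
      refine ⟨⟨(z : Ω), hzR⟩, ?_⟩
      have := hψR (z : Ω) hzR
      exact this.symm
    · rintro ⟨x, rfl⟩
      refine ⟨⟨(x : Ω), (le_sup_left : R ≤ R ⊔ X) x.2⟩, Subgroup.mem_subgroupOf.mpr x.2, ?_⟩
      exact hψR (x : Ω) x.2
  have hψXmap : (X.subgroupOf (R ⊔ X)).map ψ = X := by
    have hle' : (X.subgroupOf (R ⊔ X)).map ψ ≤ X := by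
      rintro _ ⟨z, hz, rfl⟩
      exact hψX (z : Ω) (Subgroup.mem_subgroupOf.mp hz)
    have hfX : Finite ↥X := finite_of_le_finite hXS
    apply Subgroup.eq_of_le_of_card_ge hle'
    have h1 : Nat.card ↥((X.subgroupOf (R ⊔ X)).map ψ) = Nat.card ↥(X.subgroupOf (R ⊔ X)) :=
      Nat.card_congr ((X.subgroupOf (R ⊔ X)).equivMapOfInjective ψ hψinj).symm.toEquiv
    have h2 : Nat.card ↥(X.subgroupOf (R ⊔ X)) = Nat.card ↥X :=
      Nat.card_congr (Subgroup.subgroupOfEquivOfLe (le_sup_right : X ≤ R ⊔ X)).toEquiv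
    rw [h1, h2]
  have hηη' : ∀ (x : R) (h : ψ (Subgroup.inclusion le_sup_left x) ∈ R'),
      ((MulAut.congr e η ⟨ψ (Subgroup.inclusion le_sup_left x), h⟩ : R') : Ω) =
        ψ (Subgroup.inclusion le_sup_left (η x)) := by
    intro x h
    have h1 : (⟨ψ (Subgroup.inclusion le_sup_left x), h⟩ : R') = e x := by
      apply Subtype.ext
      exact hψR (x : Ω) x.2
    rw [h1]
    have h2 : MulAut.congr e η (e x) = e (η x) := by
      simp [MulAut.congr]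
    rw [h2]
    exact (hψR ((η x : R) : Ω) (η x).2).symm
  exact extFix_pullback F ψ hψ hψRmap hψXmap η (MulAut.congr e η) hηη' hFN

end Cfsg.Agent.Helper5.CSX
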