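import Mathlib
import Cfsg.Agent.Lib.CSX.CSXLift
import Cfsg.Agent.Lib.CSX.CSXAutX
import Cfsg.Agent.Lib.CSX.CSXMain

/-!
# S5127 (helper5), Part I: `cSE F E` belongs to the family
-/

set_option autoImplicit false

namespace Cfsg.Agent.Helper5.CSX

open Cfsg Cfsg.FusionSystem Cfsg.Agent.Helper25 Cfsg.Agent.Helper3.CSE

variable {Ω : Type*} [Group Ω] {S : Subgroup Ω}

theorem xHyp_cSE [Finite S] (p : ℕ) [Fact p.Prime] (hS : IsPGroup p S) (F : FusionSystem S)
    (hF : F.IsSaturated p) {T : Subgroup Ω} (E : FusionSystem T) (hE : E.IsNormalIn F p) :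
    XHyp p F E (cSE F E) where
  le := cSE_le F E
  lift := fun hRT hRfc η hη hL hord =>
    lift_cSE p hS F hF E hE.1.2.2.2.1.1 hRT hRfc η hη hL hord
  aut := fun γ hγ => aut_cSE p hS F hF E hE γ hγ

theorem inX_cSE [Finite S] (p : ℕ) [Fact p.Prime] (hS : IsPGroup p S) (F : FusionSystem S)
    (hF : F.IsSaturated p) {T : Subgroup Ω} (E : FusionSystem T) (hE : E.IsNormalIn F p) :
    InX F E (cSE F E) :=
  ⟨cSE_le F E, mainX p hS F hF E hE (xHyp_cSE p hS F hF E hE)⟩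

end Cfsg.Agent.Helper5.CSX
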