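import Mathlib
import Cfsg.Agent.Lib.CSX.CSXDefs2
import Cfsg.Agent.Lib.Helper3.OliverB1
import Cfsg.Agent.Lib.Helper25.FusionAut

/-!
# S5127 piece CSX-INNTR: "normal `p`-subgroups of `Aut_F(U)` are inner" passes to `F`-conjugates
RECIPE.  `subst hr`.  `e := Helper25.homEquiv F hθ : U ≃* θ.range`, `c := MulAut.congr e :
MulAut U ≃* MulAut θ.range`.  `c` maps `F.autGroup U` into `F.autGroup θ.range`
(`Helper25.congr_mem_autGroup F hθ`), and `c.symm` maps back (apply `congr_mem_autGroup` to the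
inverse map `ι ∈ F.Hom θ.range` from `Helper25.exists_inv'`, whose `homEquiv` is `e.symm` up to the
identification `ι.range = U`; or prove `c.symm β ∈ F.autGroup U` directly with
`Helper25.mem_autGroup_iff` and `Helper25.comp_mem'`).  Given `C ≤ F.autGroup θ.range` normal
`p`-subgroup, `C' := C.comap c.toMonoidHom` (or `C.map c.symm.toMonoidHom`) is a normal `p`-subgroup
of `F.autGroup U`, so `C' ≤ Inn U` by `Helper3.OL.le_inn_of_normal hU C' _ _ _`; and
`c (MulAut.conj u) = MulAut.conj (e u)` (ext), so `C ≤ Inn θ.range`.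
Aux names: prefix `csxinntr_`.
-/

set_option autoImplicit false

namespace Cfsg.Agent.Helper5.CSX

open Cfsg Cfsg.FusionSystem Cfsg.Agent.Helper25 Cfsg.Agent.Helper3.CSE

variable {Ω : Type*} [Group Ω] {S : Subgroup Ω}

/-- transport of an automorphism of the system back along a map of the system -/
theorem csxinntr_symm_mem (F : FusionSystem S) {U : Subgroup Ω} {θ : U →* Ω} (hθ : θ ∈ F.Hom U)
    {γ : MulAut θ.range} (hγ : γ ∈ F.autGroup θ.range) :
    (MulAut.congr (homEquiv F hθ)).symm γ ∈ F.autGroup U := by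
  have hUS : U ≤ S := (F.le_of_mem hθ).1
  rw [mem_autGroup_iff F hUS]
  rw [mem_autGroup_iff F (range_le F hθ)] at hγ
  obtain ⟨ι, hι, hιe⟩ := exists_inv' F hθ
  have h1 : ∀ x : U, θ x ∈ θ.range := fun x => ⟨x, rfl⟩
  have hχ1 : (θ.range.subtype.comp γ.toMonoidHom).comp (θ.codRestrict θ.range h1) ∈ F.Hom U :=
    F.comp_mem hθ hγ h1
  have h2 : ∀ x : U, ((θ.range.subtype.comp γ.toMonoidHom).comp (θ.codRestrict θ.range h1)) x ∈
      θ.range := fun x => Subtype.property _
  refine comp_mem' F hχ1 hι h2 (fun x => ?_)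
  rw [hιe]
  rfl

theorem csxinntr_congr_conj {A B : Type*} [Group A] [Group B] (e : A ≃* B) (u : A) :
    MulAut.congr e (MulAut.conj u) = MulAut.conj (e u) := by
  ext y
  show e (u * e.symm y * u⁻¹) = e u * y * (e u)⁻¹
  rw [map_mul, map_mul, map_inv, MulEquiv.apply_symm_apply]

theorem inn_transport [Finite S] (p : ℕ) [Fact p.Prime] (F : FusionSystem S) {U : Subgroup Ω}
    (hU : F.IsEssential p U) (θ : U →* Ω) (hθ : θ ∈ F.Hom U) {U₁ : Subgroup Ω}
    (hr : θ.range = U₁) :
    ∀ C : Subgroup (MulAut U₁), C ≤ F.autGroup U₁ → (C.subgroupOf (F.autGroup U₁)).Normal →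
      IsPGroup p C → C ≤ Inn U₁ := by
  subst hr
  intro C hCA hCn hCp
  set c : MulAut U ≃* MulAut θ.range := MulAut.congr (homEquiv F hθ) with hc
  have hCA' : C.comap c.toMonoidHom ≤ F.autGroup U := by
    intro β hβ
    have h1 : c β ∈ F.autGroup θ.range := hCA hβ
    have h2 := csxinntr_symm_mem F hθ h1
    rwa [← hc, MulEquiv.symm_apply_apply] at h2
  have hCn' : ((C.comap c.toMonoidHom).subgroupOf (F.autGroup U)).Normal := by
    refine ⟨fun n hn g => ?_⟩
    rw [Subgroup.mem_subgroupOf] at hn ⊢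
    show c ((g * n * g⁻¹ : F.autGroup U) : MulAut U) ∈ C
    have hg : c (g : MulAut U) ∈ F.autGroup θ.range := congr_mem_autGroup F hθ g.2
    have hn' : c (n : MulAut U) ∈ C := hn
    have hnA : c (n : MulAut U) ∈ F.autGroup θ.range := hCA hn'
    have := hCn.conj_mem ⟨c (n : MulAut U), hnA⟩ (Subgroup.mem_subgroupOf.2 hn') ⟨c (g : MulAut U), hg⟩
    rw [Subgroup.mem_subgroupOf] at this
    have e : ((g * n * g⁻¹ : F.autGroup U) : MulAut U) = (g : MulAut U) * (n : MulAut U) *
        (g : MulAut U)⁻¹ := rfl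
    rw [e, map_mul, map_mul, map_inv]
    exact this
  have hCp' : IsPGroup p (C.comap c.toMonoidHom) :=
    hCp.comap_of_injective c.toMonoidHom c.injective
  have hle := Cfsg.Agent.Helper3.OL.le_inn_of_normal hU (C.comap c.toMonoidHom) hCA' hCn' hCp'
  intro γ hγ
  have h1 : c.symm γ ∈ C.comap c.toMonoidHom := by
    show c (c.symm γ) ∈ C
    rw [MulEquiv.apply_symm_apply]
    exact hγ
  obtain ⟨u, hu⟩ := hle h1
  refine ⟨homEquiv F hθ u, ?_⟩
  rw [← csxinntr_congr_conj, hu]
  exact MulEquiv.apply_symm_apply c γ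

end Cfsg.Agent.Helper5.CSX
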