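import Mathlib
import Cfsg.Agent.Lib.CSX.CSXInnTr
import Cfsg.Agent.Lib.CSE.CSEFnMap
import Cfsg.Agent.Lib.CSE.CSEBasic
import Cfsg.Agent.Lib.Helper25.FusionOmit
import Cfsg.Agent.Lib.Helper25.FusionInvariant

/-!
# S5127 piece CSX-FNREP: every essential `U` has an `F`-conjugate `U₁`, image of `U` under a map
defined on `N_S(U)`, which is "good": fully normalized, proper, self-centralizing, normal
`p`-subgroups of `Aut_F(U₁)` inner, and `U₁ ⊓ T` fully normalized.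
RECIPE.  `hUS : U ≤ S := hU.2.1.1`, `R := U ⊓ T ≤ S`.  `Helper3.CSE.exists_fn_map p hS F hF hRS`
gives `R'` fully normalized and `φ ∈ F.Hom (normalizerIn S R)` with `φ(R) = R'`.
`normalizerIn S U ≤ normalizerIn S R`: `g ∈ S` normalizes `T`
(`Helper25.mem_normalizer_of_stronglyClosed hT`) and `U`, hence `U ⊓ T`.
`χ := φ.comp (Subgroup.inclusion _)` (`Helper25.restrict_mem`), `U₁ := (U.subgroupOf _).map χ`.
`θ := χ` restricted to `U` (`U ≤ normalizerIn S U`: `Helper25.le_normalizerIn`), `θ.range = U₁`,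
so `F.IsConj U U₁`.
* `fn`: `U₁ ≤ S`; a conjugate `Q` of `U₁` is a conjugate of `U` (`Helper25.isConj_trans`), so
  `card N_S(Q) ≤ card N_S(U)` (`hU.2.1.2`), and `card N_S(U) ≤ card N_S(U₁)`: `χ` is injective
  (`F.injective_of_mem`) and maps `N_S(U)` into `N_S(U₁)` (values in `S` by `F.le_of_mem`;
  `χ g * χ u * (χ g)⁻¹ = χ (g u g⁻¹) ∈ U₁`, and a finite subgroup mapped into itself by a conjugation
  is normalized: both directions via `g⁻¹`).
* `ne`: `U ≠ S` (`Helper25.not_isEssential_self p F hF`, `subst`), `card U₁ = card U < card S`.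
* `cen`: `hU.1.2 U₁ hconj`.
* `inn`: `inn_transport p F hU θ hθ hrange`.
* `rfn`: `U₁ ⊓ T = R'`, then `hR'fn`.  `⊇`: `φ(R) ≤ U₁` and `≤ T` (`hT.2`).  `⊆`: `y = χ u ∈ T`; the
  inverse `ι ∈ F.Hom U₁` of `θ` (`Helper25.exists_inv`) restricted to `U₁ ⊓ T ≤ T` has values in `T`
  (`hT.2 (U₁ ⊓ T) inf_le_right _ _`), so `u = ι y ∈ T`, `u ∈ R`, `y ∈ φ(R) = R'`.
Aux names: prefix `csxfnrep_`.
-/

set_option autoImplicit false

namespace Cfsg.Agent.Helper5.CSX

open Cfsg Cfsg.FusionSystem Cfsg.Agent.Helper25 Cfsg.Agent.Helper3.CSE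

variable {Ω : Type*} [Group Ω] {S : Subgroup Ω}

/-- a map defined on `N_S(U)` carries `N_S(U)` into the normalizer of the image of `U` -/
theorem csxfnrep_map_normalizer (F : FusionSystem S) {U : Subgroup Ω}
    (χ : ↥(normalizerIn S U) →* Ω) (hχ : χ ∈ F.Hom (normalizerIn S U))
    (g : ↥(normalizerIn S U)) :
    χ g ∈ normalizerIn S ((U.subgroupOf (normalizerIn S U)).map χ) := by
  refine Subgroup.mem_inf.2 ⟨(F.le_of_mem hχ).2 g, ?_⟩
  have hgN : (g : Ω) ∈ Subgroup.normalizer (U : Set Ω) := (Subgroup.mem_inf.1 g.2).2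
  apply mem_normalizer_of_forall
  · rintro _ ⟨n, hn, rfl⟩
    refine ⟨g * n * g⁻¹, ?_, by rw [map_mul, map_mul, map_inv]⟩
    replace hn : (n : Ω) ∈ U := hn
    show ((g * n * g⁻¹ : ↥(normalizerIn S U)) : Ω) ∈ U
    have := (Subgroup.mem_normalizer_iff.1 hgN (n : Ω)).1 hn
    simpa using this
  · rintro _ ⟨n, hn, rfl⟩
    refine ⟨g⁻¹ * n * g, ?_, by rw [map_mul, map_mul, map_inv]⟩
    replace hn : (n : Ω) ∈ U := hn
    show ((g⁻¹ * n * g : ↥(normalizerIn S U)) : Ω) ∈ U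
    have := (Subgroup.mem_normalizer_iff''.1 hgN (n : Ω)).1 hn
    simpa using this

theorem exists_good_rep [Finite S] (p : ℕ) [Fact p.Prime] (hS : IsPGroup p S) (F : FusionSystem S)
    (hF : F.IsSaturated p) {T : Subgroup Ω} (hT : F.StronglyClosed T) {U : Subgroup Ω}
    (hU : F.IsEssential p U) :
    ∃ (U₁ : Subgroup Ω) (χ : ↥(normalizerIn S U) →* Ω), χ ∈ F.Hom (normalizerIn S U) ∧
      (U.subgroupOf (normalizerIn S U)).map χ = U₁ ∧ GoodU p F T U₁ := by
  have hUS : U ≤ S := hU.2.1.1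
  have hRS : U ⊓ T ≤ S := inf_le_left.trans hUS
  obtain ⟨R', φ, hR'fn, hφ, hmap⟩ := exists_fn_map p hS F hF hRS
  have hNN : normalizerIn S U ≤ normalizerIn S (U ⊓ T) := by
    intro g hg
    have hgS : g ∈ S := (Subgroup.mem_inf.1 hg).1
    have hgU : g ∈ Subgroup.normalizer (U : Set Ω) := (Subgroup.mem_inf.1 hg).2
    have hgT : g ∈ Subgroup.normalizer (T : Set Ω) := mem_normalizer_of_stronglyClosed hT hgS
    refine Subgroup.mem_inf.2 ⟨hgS, ?_⟩
    rw [Subgroup.mem_normalizer_iff]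
    intro h
    rw [Subgroup.mem_inf, Subgroup.mem_inf, ← Subgroup.mem_normalizer_iff.1 hgU h,
      ← Subgroup.mem_normalizer_iff.1 hgT h]
  have hχ : φ.comp (Subgroup.inclusion hNN) ∈ F.Hom (normalizerIn S U) := restrict_mem F hNN hφ
  set χ : ↥(normalizerIn S U) →* Ω := φ.comp (Subgroup.inclusion hNN) with hχdef
  have hUN : U ≤ normalizerIn S U := le_normalizerIn hUS
  have hθ : χ.comp (Subgroup.inclusion hUN) ∈ F.Hom U := restrict_mem F hUN hχ
  set θ : U →* Ω := χ.comp (Subgroup.inclusion hUN) with hθdef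
  have hrange : θ.range = (U.subgroupOf (normalizerIn S U)).map χ := by
    ext y
    constructor
    · rintro ⟨u, rfl⟩
      exact ⟨Subgroup.inclusion hUN u, Subgroup.mem_subgroupOf.2 u.2, rfl⟩
    · rintro ⟨n, hn, rfl⟩
      replace hn : (n : Ω) ∈ U := hn
      refine ⟨⟨(n : Ω), hn⟩, ?_⟩
      show χ (Subgroup.inclusion hUN ⟨(n : Ω), hn⟩) = χ n
      congr 1
  set U₁ : Subgroup Ω := (U.subgroupOf (normalizerIn S U)).map χ with hU₁
  have hconj : F.IsConj U U₁ := ⟨θ, hθ, hrange⟩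
  have hU₁S : U₁ ≤ S := by
    rintro _ ⟨n, -, rfl⟩
    exact (F.le_of_mem hχ).2 n
  refine ⟨U₁, χ, hχ, rfl, ⟨⟨hU₁S, ?_⟩, ?_, hU.1.2 U₁ hconj, inn_transport p F hU θ hθ hrange, ?_⟩⟩
  · -- fully normalized
    intro Q hQ
    have h1 := hU.2.1.2 Q (isConj_trans F hconj hQ)
    refine h1.trans ?_
    have : Finite ↥(normalizerIn S U₁) := finite_of_le_finite normalizerIn_le
    let f : ↥(normalizerIn S U) → ↥(normalizerIn S U₁) := fun g =>
      ⟨χ g, csxfnrep_map_normalizer F χ hχ g⟩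
    have hf : Function.Injective f := by
      intro g g' h
      have h' : χ g = χ g' := congrArg Subtype.val h
      exact F.injective_of_mem hχ h'
    exact Nat.card_le_card_of_injective f hf
  · -- proper
    intro hU₁eq
    have hUne : U ≠ S := by
      intro h
      subst h
      exact Cfsg.Agent.Helper25.Omit.not_isEssential_self p F hF hU
    have hcard : Nat.card U = Nat.card U₁ := by
      rw [← hrange]
      exact Nat.card_congr (homEquiv F hθ).toEquiv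
    rw [hU₁eq] at hcard
    exact hUne (Subgroup.eq_of_le_of_card_ge hUS (le_of_eq hcard.symm))
  · -- `U₁ ⊓ T` is fully normalized
    have hRN : U ⊓ T ≤ normalizerIn S (U ⊓ T) := le_normalizerIn hRS
    have heq : U₁ ⊓ T = R' := by
      rw [← hmap]
      apply le_antisymm
      · rintro y ⟨hy1, hyT⟩
        obtain ⟨n, hn, rfl⟩ := hy1
        replace hn : (n : Ω) ∈ U := hn
        -- the inverse of `θ`
        obtain ⟨ι, hι, hιinv, -⟩ := exists_inv F hθ hrange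
        have hy1' : χ n ∈ U₁ := ⟨n, Subgroup.mem_subgroupOf.2 hn, rfl⟩
        have hι' : ι.comp (Subgroup.inclusion (inf_le_left : U₁ ⊓ T ≤ U₁)) ∈ F.Hom (U₁ ⊓ T) :=
          restrict_mem F inf_le_left hι
        have h2 := hT.2 (U₁ ⊓ T) inf_le_right _ hι' ⟨χ n, Subgroup.mem_inf.2 ⟨hy1', hyT⟩⟩
        have h3 : ι ⟨θ ⟨(n : Ω), hn⟩, hy1'⟩ = (n : Ω) := hιinv ⟨(n : Ω), hn⟩ hy1'
        have h4 : (ι.comp (Subgroup.inclusion (inf_le_left : U₁ ⊓ T ≤ U₁)))
            ⟨χ n, Subgroup.mem_inf.2 ⟨hy1', hyT⟩⟩ = (n : Ω) := h3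
        rw [h4] at h2
        have hnR : (n : Ω) ∈ U ⊓ T := Subgroup.mem_inf.2 ⟨hn, h2⟩
        refine ⟨⟨(n : Ω), hRN hnR⟩, Subgroup.mem_subgroupOf.2 hnR, ?_⟩
        show φ ⟨(n : Ω), hRN hnR⟩ = φ (Subgroup.inclusion hNN n)
        congr 1
      · rintro _ ⟨n, hn, rfl⟩
        replace hn : (n : Ω) ∈ U ⊓ T := hn
        have hnU : (n : Ω) ∈ U := (Subgroup.mem_inf.1 hn).1
        refine Subgroup.mem_inf.2 ⟨?_, ?_⟩
        · refine ⟨⟨(n : Ω), hUN hnU⟩, Subgroup.mem_subgroupOf.2 hnU, ?_⟩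
          show φ (Subgroup.inclusion hNN ⟨(n : Ω), hUN hnU⟩) = φ n
          congr 1
        · have hφ' : φ.comp (Subgroup.inclusion hRN) ∈ F.Hom (U ⊓ T) := restrict_mem F hRN hφ
          have h2 := hT.2 (U ⊓ T) inf_le_right _ hφ' ⟨(n : Ω), hn⟩
          have h3 : (φ.comp (Subgroup.inclusion hRN)) ⟨(n : Ω), hn⟩ = φ n := by
            show φ (Subgroup.inclusion hRN ⟨(n : Ω), hn⟩) = φ n
            congr 1
          rwa [h3] at h2
    rw [heq]
    exact hR'fn

end Cfsg.Agent.Helper5.CSX
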