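import Mathlib
import Cfsg.Agent.Lib.CSX.CSXFnRep

/-!
# S5127 piece CSX-REDUCE: the essential case follows from the "good" case
RECIPE.  `exists_good_rep p hS F hF hT hU` gives `U₁`, `χ ∈ F.Hom (normalizerIn S U)`,
`χ(U) = U₁`, `GoodU p F T U₁`.  `U ≠ S` (`Helper25.not_isEssential_self`), so
`Nat.card U < Nat.card (normalizerIn S U)` (`Helper3.CSE.card_lt_normalizerIn p hS hUS hne`, with
`T := S`), and `IH _ χ hχ _ : Pres F E (normalizerIn S U) χ`.
`θ := χ.comp (Subgroup.inclusion (le_normalizerIn hUS)) ∈ F.Hom U`, `θ.range = U₁`;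
`e : U ≃* U₁ := (Helper25.homEquiv F hθ).trans (MulEquiv.subgroupCongr hrange)`,
`α₁ := MulAut.congr e α ∈ F.autGroup U₁` (`Helper25.congr_mem_autGroup F hθ hα`, transported along
`hrange`; `subst` if convenient), `Nat.card U₁ = Nat.card U` (`Nat.card_congr e.toEquiv`).
For `x : U`: `x ∈ cSE ↔ χ x ∈ cSE` (IH at `x`), `α x ∈ cSE ↔ χ (α x) ∈ cSE` (IH at `α x`),
`χ (α x) = α₁ (e x)` and `(e x : Ω) = χ x`; `hgood U₁ _ _ α₁ _` at `e x` closes the chain.
Aux names: prefix `csxreduce_`.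
-/

set_option autoImplicit false

namespace Cfsg.Agent.Helper5.CSX

open Cfsg Cfsg.FusionSystem Cfsg.Agent.Helper25 Cfsg.Agent.Helper3.CSE

variable {Ω : Type*} [Group Ω] {S : Subgroup Ω}

theorem pres_essential [Finite S] (p : ℕ) [Fact p.Prime] (hS : IsPGroup p S) (F : FusionSystem S)
    (hF : F.IsSaturated p) {T : Subgroup Ω} (E : FusionSystem T) (hT : F.StronglyClosed T)
    {U : Subgroup Ω} (hU : F.IsEssential p U)
    (IH : ∀ (P : Subgroup Ω) (φ : P →* Ω), φ ∈ F.Hom P → Nat.card U < Nat.card P →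
      Pres F E P φ)
    (hgood : ∀ U₁ : Subgroup Ω, GoodU p F T U₁ → Nat.card U₁ = Nat.card U →
      ∀ α₁ : MulAut U₁, α₁ ∈ F.autGroup U₁ → Pres F E U₁ (U₁.subtype.comp α₁.toMonoidHom))
    (α : MulAut U) (hα : α ∈ F.autGroup U) :
    Pres F E U (U.subtype.comp α.toMonoidHom) := by
  have hUS : U ≤ S := hU.1.1
  have hne : U ≠ S := by
    intro h
    rw [h] at hU
    exact Cfsg.Agent.Helper25.Omit.not_isEssential_self p F hF hU
  have hlt : Nat.card U < Nat.card (normalizerIn S U) := card_lt_normalizerIn p hS hUS hne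
  obtain ⟨U₁, χ, hχ, hmap, hgoodU⟩ := exists_good_rep p hS F hF hT hU
  have hIH : Pres F E (normalizerIn S U) χ := IH _ χ hχ hlt
  have hUN : U ≤ normalizerIn S U := le_normalizerIn hUS
  have hθ : χ.comp (Subgroup.inclusion hUN) ∈ F.Hom U := restrict_mem F hUN hχ
  have hrange : (χ.comp (Subgroup.inclusion hUN)).range = U₁ := by
    rw [← hmap]
    ext y
    constructor
    · rintro ⟨x, rfl⟩
      exact ⟨Subgroup.inclusion hUN x, Subgroup.mem_subgroupOf.mpr x.2, rfl⟩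
    · rintro ⟨g, hg, rfl⟩
      exact ⟨⟨(g : Ω), Subgroup.mem_subgroupOf.mp hg⟩, rfl⟩
  subst hrange
  have hcard : Nat.card (χ.comp (Subgroup.inclusion hUN)).range = Nat.card U :=
    (Nat.card_congr (homEquiv F hθ).toEquiv).symm
  have hα₁ := congr_mem_autGroup F hθ hα
  have hP1 := hgood _ hgoodU hcard _ hα₁
  intro x
  have h1 := hIH (Subgroup.inclusion hUN x)
  have h2 := hP1 (homEquiv F hθ x)
  have h3 := hIH (Subgroup.inclusion hUN (α x))
  have e2 : ((χ.comp (Subgroup.inclusion hUN)).range.subtype.comp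
      (MulAut.congr (homEquiv F hθ) α).toMonoidHom) (homEquiv F hθ x) =
      χ (Subgroup.inclusion hUN (α x)) := by
    show (((MulAut.congr (homEquiv F hθ) α) (homEquiv F hθ x) :
      (χ.comp (Subgroup.inclusion hUN)).range) : Ω) = _
    have h4 : (MulAut.congr (homEquiv F hθ) α) (homEquiv F hθ x) = homEquiv F hθ (α x) := by
      show homEquiv F hθ (α ((homEquiv F hθ).symm (homEquiv F hθ x))) = homEquiv F hθ (α x)
      rw [MulEquiv.symm_apply_apply]
    rw [h4]
    rfl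
  rw [e2] at h2
  have h1' : ((x : Ω) ∈ cSE F E ↔ χ (Subgroup.inclusion hUN x) ∈ cSE F E) := h1
  have h2' : (χ (Subgroup.inclusion hUN x) ∈ cSE F E ↔
      χ (Subgroup.inclusion hUN (α x)) ∈ cSE F E) := h2
  have h3' : (((α x : U) : Ω) ∈ cSE F E ↔ χ (Subgroup.inclusion hUN (α x)) ∈ cSE F E) := h3
  show ((x : Ω) ∈ cSE F E ↔ ((α x : U) : Ω) ∈ cSE F E)
  exact h1'.trans (h2'.trans h3'.symm)

end Cfsg.Agent.Helper5.CSX
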