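import Mathlib
import Cfsg.Agent.Lib.CSX.CSXPartI
import Cfsg.Agent.Lib.CSX.CSXReduce
import Cfsg.Agent.Lib.CSX.CSXGood
import Cfsg.Agent.Lib.Helper25.FusionAlperin2

/-!
# S5127 (helper5, assembly): `cSE F E` is strongly closed in `F` (Alperin induction)
-/

set_option autoImplicit false

namespace Cfsg.Agent.Helper5.CSX

open Cfsg Cfsg.FusionSystem Cfsg.Agent.Helper25 Cfsg.Agent.Helper3.CSE

variable {Ω : Type*} [Group Ω] {S : Subgroup Ω}

theorem pres_all_aux [Finite S] (p : ℕ) [Fact p.Prime] (hS : IsPGroup p S) (F : FusionSystem S)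
    (hF : F.IsSaturated p) {T : Subgroup Ω} (E : FusionSystem T) (hE : E.IsNormalIn F p)
    (hC : InX F E (cSE F E)) :
    ∀ (d : ℕ) (P : Subgroup Ω) (φ : P →* Ω), φ ∈ F.Hom P → Nat.card S ≤ Nat.card P + d →
      Pres F E P φ := by
  have hinv := hE.1.2.2
  have hT := hinv.2.1
  intro d
  induction d using Nat.strong_induction_on with
  | _ d IHd =>
    intro P φ hφ
    refine alperin_induction p hS F hF
      (fun P φ => Nat.card S ≤ Nat.card P + d → Pres F E P φ) ?_ ?_ ?_ ?_ hφ
    · intro P g hP hg _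
      exact pres_conj F E hinv hC hP hg
    · intro P Q φ ψ hφ hψ hPφ hPψ h hd
      have hQS : Q ≤ S := (F.le_of_mem hψ).1
      have hfQ : Finite Q := finite_of_le_finite hQS
      have hinj : Function.Injective (fun x : P => (⟨φ x, h x⟩ : Q)) := by
        intro a b hab
        exact F.injective_of_mem hφ (congrArg Subtype.val hab)
      have hPQ : Nat.card P ≤ Nat.card Q := Nat.card_le_card_of_injective _ hinj
      have h1 := hPφ hd
      have h2 := hPψ (by omega)
      intro x
      exact (h1 x).trans (h2 ⟨φ x, h x⟩)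
    · intro P φ hφ hPφ ψ _ hψx hd
      have hcard : Nat.card φ.range = Nat.card P :=
        (Nat.card_congr (homEquiv F hφ).toEquiv).symm
      have h1 := hPφ (by omega)
      intro y
      obtain ⟨x, hx⟩ := y.2
      have hy : y = ⟨φ x, ⟨x, rfl⟩⟩ := Subtype.ext hx.symm
      rw [hy, hψx x]
      exact (h1 x).symm
    · intro P hP α hα hd
      rcases hP with rfl | hess
      · exact pres_of_le F E hinv hC hT.1 _ ((mem_autGroup_iff F le_rfl α).mp hα)
      · have IH' : ∀ (P' : Subgroup Ω) (φ' : P' →* Ω), φ' ∈ F.Hom P' →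
            Nat.card P < Nat.card P' → Pres F E P' φ' := by
          intro P' φ' hφ' hlt
          have hP'S : P' ≤ S := (F.le_of_mem hφ').1
          have hle : Nat.card P' ≤ Nat.card S := Subgroup.card_le_of_le hP'S
          have hd0 : d ≠ 0 := by
            rintro rfl
            omega
          exact IHd (d - 1) (by omega) P' φ' hφ' (by omega)
        refine pres_essential p hS F hF E hT hess IH' ?_ α hα
        intro U₁ hU₁ hcard α₁ hα₁
        exact pres_good p hS F hF E hE hC hU₁
          (fun P' φ' hφ' hlt => IH' P' φ' hφ' (by omega)) α₁ hα₁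

theorem stronglyClosed_cSE [Finite S] (p : ℕ) [Fact p.Prime] (hS : IsPGroup p S)
    (F : FusionSystem S) (hF : F.IsSaturated p) {T : Subgroup Ω} (E : FusionSystem T)
    (hE : E.IsNormalIn F p) : F.StronglyClosed (cSE F E) := by
  have hC := inX_cSE p hS F hF E hE
  refine ⟨(cSE_le F E).trans centralizerIn_le, fun R hR φ hφ x => ?_⟩
  have h := pres_all_aux p hS F hF E hE hC (Nat.card S) R φ hφ (Nat.le_add_left _ _)
  exact (h x).mp (hR x.2)

end Cfsg.Agent.Helper5.CSX
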